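import Cfsg.Agent.SpecAbsorb.Unitri
import Cfsg.Agent.OrderBC.SympElement
import Cfsg.Agent.Classical.SympTorus
import Cfsg.Agent.Spectrum.MatrixOrder

/-!
Elements of symplectic groups: split and non-split Singer elements and a regular unipotent element.
-/

set_option autoImplicit false
set_option maxHeartbeats 400000

namespace CfsgLib.SpecAbsorb

open Matrix

variable {F : Type*} [Field F] [Fintype F]

theorem exists_sp_plus {m : ℕ} (hm : 1 ≤ m) :
    ∃ z : Matrix.symplecticGroup (Fin m) F, orderOf z = Fintype.card F ^ m - 1 := by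
  obtain ⟨g, hg⟩ := CfsgLib.MatOrder.exists_gl_orderOf_singer F hm
  exact ⟨CfsgLib.Symp.Torus.levi g, by rw [orderOf_injective _ CfsgLib.Symp.Torus.levi_injective, hg]⟩

theorem exists_sp_unip {p : ℕ} [Fact p.Prime] [CharP F p] {k K : ℕ} (hk : 1 ≤ k) (h1 : 2 * k ≤ p ^ K)
    (h2 : p ^ (K - 1) < 2 * k) : ∃ u : Matrix.symplecticGroup (Fin k) F, orderOf u = p ^ K := by
  classical
  let A : Matrix (Fin k) (Fin k) F := 1 + CfsgLib.MatOrder.shift F k
  let B : Matrix (Fin k) (Fin k) F := Matrix.of fun i l => if i ≤ l then (-1) ^ ((l : ℕ) - i) else 0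
  have hA : ∀ i l, A i l = if l = i then 1 else if (l : ℕ) = i + 1 then 1 else 0 := fun i l => by
    rcases eq_or_ne l i with rfl | h
    · simp [A, CfsgLib.MatOrder.shift]
    · simp [A, CfsgLib.MatOrder.shift, h, Matrix.one_apply_ne h.symm]
  have hAB : A * B = 1 := by
    ext i l
    rw [show A * B = B + CfsgLib.MatOrder.shift F k * B by simp [A, add_mul], Matrix.add_apply, Matrix.mul_apply]
    by_cases hi : (i : ℕ) + 1 < k
    · rw [Finset.sum_eq_single ⟨i + 1, hi⟩]
      · simp only [B, CfsgLib.MatOrder.shift, Matrix.of_apply, if_true, one_mul, Fin.le_def]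
        rcases lt_trichotomy (i : ℕ) l with h | h | h
        · rw [if_pos h.le, if_pos (by omega), Matrix.one_apply_ne (Fin.ne_of_val_ne h.ne),
            show (l : ℕ) - i = (l - (i + 1)) + 1 by omega, pow_succ]
          ring
        · rw [if_pos h.le, if_neg (by omega), show i = l from Fin.ext h, Matrix.one_apply_eq]
          simp
        · rw [if_neg (by omega), if_neg (by omega), Matrix.one_apply_ne (Fin.ne_of_val_ne h.ne'), add_zero]
      · intro b _ hb
        rw [CfsgLib.MatOrder.shift, Matrix.of_apply, if_neg (fun e => hb (Fin.ext e)), zero_mul]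
      · simp
    · rw [Finset.sum_eq_zero fun b _ => by
        rw [CfsgLib.MatOrder.shift, Matrix.of_apply, if_neg (by omega), zero_mul], add_zero]
      simp only [B, Matrix.of_apply, Fin.le_def]
      rcases eq_or_ne i l with rfl | h
      · simp
      · rw [Matrix.one_apply_ne h, if_neg]
        have := Fin.val_ne_of_ne h
        omega
  let S : Matrix (Fin k) (Fin k) F := Matrix.single ⟨k - 1, by omega⟩ ⟨k - 1, by omega⟩ 1
  have hS : Sᵀ = S := by simp [S, Matrix.transpose_single]
  let G : GL (Fin k) F := ⟨A, B, hAB, mul_eq_one_comm.1 hAB⟩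
  let w : Matrix.symplecticGroup (Fin k) F :=
    ⟨Matrix.fromBlocks 1 S 0 1, SymplecticGroup.fromBlocks_mem_iff.2 ⟨by simp, by simp [hS], by simp⟩⟩
  let u := CfsgLib.Symp.Torus.levi G * w
  have hu : (u : Matrix (Fin k ⊕ Fin k) (Fin k ⊕ Fin k) F) = Matrix.fromBlocks A (A * S) 0 Bᵀ := by
    show Matrix.fromBlocks A 0 0 Bᵀ * Matrix.fromBlocks 1 S 0 1 = _
    simp [Matrix.fromBlocks_multiply]
  let e : Fin k ⊕ Fin k ≃ Fin (2 * k) :=
    ((Equiv.sumCongr (Equiv.refl _) Fin.revPerm).trans finSumFinEquiv).trans (finCongr (two_mul k).symm)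
  have hel : ∀ i, (e (Sum.inl i) : ℕ) = i := fun i => by simp [e]
  have her : ∀ i, (e (Sum.inr i) : ℕ) = k + (k - (i + 1)) := fun i => by simp [e]; omega
  have hf : Function.Injective (fun v : Matrix.symplecticGroup (Fin k) F =>
      Matrix.reindexAlgEquiv F F e (v : Matrix (Fin k ⊕ Fin k) (Fin k ⊕ Fin k) F)) :=
    (Matrix.reindexAlgEquiv F F e).injective.comp Subtype.val_injective
  let φ : Matrix.symplecticGroup (Fin k) F →* Matrix (Fin (2 * k)) (Fin (2 * k)) F :=
    (Matrix.reindexAlgEquiv F F e).toMonoidHom.comp (Matrix.symplecticGroup (Fin k) F).subtype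
  refine ⟨u, ?_⟩
  rw [← orderOf_injective φ hf u]
  set M := φ u - 1
  have hM : ∀ x y, M (e x) (e y) = (u : Matrix (Fin k ⊕ Fin k) (Fin k ⊕ Fin k) F) x y - (if x = y then 1 else 0) := by
    intro x y
    simp [M, φ, Matrix.one_apply]
  rw [show φ u = 1 + M by simp [M]]
  refine orderOf_one_add (by omega) h1 h2 (fun x y hxy => ?_) fun x y hxy => ?_ <;>
    obtain ⟨x, rfl⟩ := e.surjective x <;> obtain ⟨y, rfl⟩ := e.surjective y <;>
    rw [hM, hu] <;> rcases x with i | i <;> rcases y with l | l <;>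
    simp only [hel, her] at hxy
  · rw [Matrix.fromBlocks_apply₁₁, hA]
    rcases eq_or_ne l i with rfl | h
    · simp
    · rw [if_neg h, if_neg (by omega), if_neg (by simpa using h.symm), sub_zero]
  · omega
  · simp
  · rw [Matrix.fromBlocks_apply₂₂, Matrix.transpose_apply]
    simp only [B, Matrix.of_apply, Fin.le_def]
    rcases eq_or_ne l i with rfl | h
    · simp
    · have := Fin.val_ne_of_ne h
      rw [if_neg (by omega), if_neg (by simpa using h.symm), sub_zero]
  · rw [Matrix.fromBlocks_apply₁₁, hA, if_neg (Fin.ne_of_val_ne (by omega)), if_pos hxy,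
      if_neg (by simp only [Sum.inl.injEq]; exact Fin.ne_of_val_ne (by omega)), sub_zero]
    exact one_ne_zero
  · have hi : i = ⟨k - 1, by omega⟩ := Fin.ext (by simp only; omega)
    have hl : l = ⟨k - 1, by omega⟩ := Fin.ext (by simp only; omega)
    rw [Matrix.fromBlocks_apply₁₂, if_neg (by simp), sub_zero]
    simp [S, hi, hl, hA]
  · omega
  · rw [Matrix.fromBlocks_apply₂₂, Matrix.transpose_apply]
    simp only [B, Matrix.of_apply, Fin.le_def]
    rw [if_pos (by omega), if_neg (by simp only [Sum.inr.injEq]; exact Fin.ne_of_val_ne (by omega)),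
      show (i : ℕ) - l = 1 by omega, sub_zero, pow_one]
    exact neg_ne_zero.2 one_ne_zero

end CfsgLib.SpecAbsorb
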