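import Cfsg.Agent.SpecAbsorb.Ring
import Cfsg.Agent.Forms.Basic
import Mathlib.FieldTheory.Finite.Trace
import Mathlib.LinearAlgebra.Eigenspace.Zero
import Mathlib.LinearAlgebra.Determinant
import Mathlib.RingTheory.Norm.Transitivity

/-!
An isometry of a non-degenerate reflexive form over a finite field either commutes with a proper
self-adjoint idempotent or is primary: the algebra it generates has one residue field, or two exchanged
by the adjoint.
-/

set_option autoImplicit false
set_option linter.style.haveILetI false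
set_option maxHeartbeats 400000

namespace CfsgLib.SpecAbsorb

open Module Matrix CfsgLib.Forms

variable {F : Type*} [Field F] [Finite F] {V : Type*} [AddCommGroup V] [Module F V] [FiniteDimensional F V]
  (Φ : RForm F V) (g : Module.End F V)

/-- `b` is the adjoint of `a`. -/
def IsAdj (a b : Module.End F V) : Prop := ∀ u v, Φ.h (a u) v = Φ.h u (b v)

theorem IsAdj.symm {a b : Module.End F V} (h : IsAdj Φ a b) : IsAdj Φ b a := fun u v => by
  rw [Φ.swap v (b u), ← h v u, ← Φ.swap]

variable {Φ}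

theorem IsAdj.unique (hΦ : Φ.Nondeg) {a b b' : Module.End F V} (h : IsAdj Φ a b) (h' : IsAdj Φ a b') : b = b' :=
  LinearMap.ext fun v => sub_eq_zero.1 (hΦ _ fun u => by rw [Φ.sub_right, ← h u v, ← h' u v, sub_self])

theorem det_adj (hΦ : Φ.Nondeg) {a b : Module.End F V} (h : IsAdj Φ a b) :
    LinearMap.det a = Φ.σ (LinearMap.det b) := by
  classical
  let β := Module.finBasis F V
  let M : Matrix (Fin (finrank F V)) (Fin (finrank F V)) F := Matrix.of fun i j => Φ.h (β i) (β j)
  have hM : M.det ≠ 0 := fun h0 => by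
    obtain ⟨c, hc, hc0⟩ := Matrix.exists_mulVec_eq_zero_iff.2 h0
    refine hc ?_
    have hu : ∑ k, Φ.σ (c k) • β k = 0 := hΦ _ fun v => by
      have : Φ.toDual (∑ k, Φ.σ (c k) • β k) = 0 := β.ext fun i => by
        show Φ.h (β i) _ = 0
        rw [Φ.sum_right]
        refine Eq.trans (Finset.sum_congr rfl fun k _ => ?_) (congrFun hc0 i)
        rw [Φ.smul_right, Φ.σσ, mul_comm]; rfl
      exact LinearMap.congr_fun this v
    funext i
    exact Φ.σ_injective ((Fintype.linearIndependent_iff.1 β.linearIndependent _ hu i).trans (map_zero _).symm)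
  set A := LinearMap.toMatrix β β a with hA
  set B := LinearMap.toMatrix β β b with hB
  have key : Aᵀ * M = M * B.map Φ.σ := by
    ext i j
    have hl : Φ.h (a (β i)) (β j) = (Aᵀ * M) i j := by
      conv_lhs => rw [← β.sum_repr (a (β i))]
      show Φ.toDual (β j) (∑ k, β.repr (a (β i)) k • β k) = _
      rw [map_sum, Matrix.mul_apply]
      refine Finset.sum_congr rfl fun k _ => ?_
      rw [map_smul, Matrix.transpose_apply, hA, LinearMap.toMatrix_apply]; rfl
    have hr : Φ.h (β i) (b (β j)) = (M * B.map Φ.σ) i j := by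
      conv_lhs => rw [← β.sum_repr (b (β j))]
      rw [Φ.sum_right, Matrix.mul_apply]
      refine Finset.sum_congr rfl fun k _ => ?_
      rw [Φ.smul_right, Matrix.map_apply, hB, LinearMap.toMatrix_apply, mul_comm]; rfl
    rw [← hl, ← hr, h]
  have hd := congrArg Matrix.det key
  rw [Matrix.det_mul, Matrix.det_mul, Matrix.det_transpose, mul_comm A.det] at hd
  have hd' := mul_left_cancel₀ hM hd
  rw [show (B.map Φ.σ).det = Φ.σ B.det from ((RingHom.map_det _ _).symm)] at hd'
  rwa [hA, hB, LinearMap.det_toMatrix, LinearMap.det_toMatrix] at hd'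

/-- The algebra generated by `g`. -/
abbrev GA : Subalgebra F (Module.End F V) := Algebra.adjoin F {g}

/-- `g` as an element of its algebra. -/
def gen : GA g := ⟨g, Algebra.subset_adjoin rfl⟩

theorem exists_adj (hΦ : Φ.Nondeg) (hg : ∀ u v, Φ.h (g u) (g v) = Φ.h u v) (a : GA g) :
    ∃ b : GA g, IsAdj Φ (a : Module.End F V) b := by
  haveI : Finite (Module.End F V) := Module.finite_of_finite F
  have hu : IsUnit g := (Module.End.isUnit_iff _).2 (by
    have hinj : Function.Injective g := (injective_iff_map_eq_zero g).2 fun x hx =>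
      hΦ x fun u => by rw [← hg u x, hx, Φ.zero_right]
    exact ⟨hinj, LinearMap.injective_iff_surjective.1 hinj⟩)
  obtain ⟨u, hu⟩ := hu
  obtain ⟨o, ho⟩ : ∃ o, g ^ (o + 1) = 1 := by
    refine ⟨orderOf u - 1, ?_⟩
    rw [Nat.sub_add_cancel (orderOf_pos u), ← hu, ← Units.val_pow_eq_pow_val, pow_orderOf_eq_one, Units.val_one]
  suffices key : ∀ x ∈ GA g, ∃ y ∈ GA g, IsAdj Φ x y by
    obtain ⟨y, hy, h⟩ := key _ a.2
    exact ⟨⟨y, hy⟩, h⟩
  intro x hx
  induction hx using Algebra.adjoin_induction with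
  | mem x hx =>
    obtain rfl : x = g := hx
    refine ⟨x ^ o, pow_mem (Algebra.subset_adjoin (Set.mem_singleton x)) o, fun u v => ?_⟩
    rw [← hg u ((x ^ o) v), ← Module.End.mul_apply, ← pow_succ', ho, Module.End.one_apply]
  | algebraMap c =>
    refine ⟨algebraMap F (Module.End F V) (Φ.σ c), Subalgebra.algebraMap_mem _ _, fun u v => ?_⟩
    rw [Module.algebraMap_end_apply, Module.algebraMap_end_apply, Φ.smul_left, Φ.smul_right, Φ.σσ]
  | add x y _ _ hx hy =>
    obtain ⟨bx, hbx, hx⟩ := hx
    obtain ⟨bz, hbz, hy⟩ := hy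
    refine ⟨bx + bz, add_mem hbx hbz, fun u v => ?_⟩
    rw [LinearMap.add_apply, LinearMap.add_apply, Φ.add_left, Φ.add_right, hx u v, hy u v]
  | mul x y _ _ hx hy =>
    obtain ⟨bx, hbx, hx⟩ := hx
    obtain ⟨bz, hbz, hy⟩ := hy
    refine ⟨bz * bx, mul_mem hbz hbx, fun u v => ?_⟩
    rw [Module.End.mul_apply, Module.End.mul_apply, hx (y u) v, hy u _]

variable {g} (hΦ : Φ.Nondeg) (hg : ∀ u v, Φ.h (g u) (g v) = Φ.h u v)

/-- The adjoint on the algebra. -/
noncomputable def adjHom : GA g →+* GA g where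
  toFun a := (exists_adj g hΦ hg a).choose
  map_one' := Subtype.ext (IsAdj.unique hΦ (exists_adj g hΦ hg 1).choose_spec fun _ _ => rfl)
  map_zero' := Subtype.ext (IsAdj.unique hΦ (exists_adj g hΦ hg 0).choose_spec fun u v => by
    show Φ.h 0 v = Φ.h u 0
    rw [Φ.zero_left, Φ.zero_right])
  map_add' a b := Subtype.ext (IsAdj.unique hΦ (exists_adj g hΦ hg (a + b)).choose_spec fun u v => by
    show Φ.h ((a : Module.End F V) u + (b : Module.End F V) u) v = Φ.h u (_ + _)
    rw [Φ.add_left, Φ.add_right]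
    exact congrArg₂ _ ((exists_adj g hΦ hg a).choose_spec u v) ((exists_adj g hΦ hg b).choose_spec u v))
  map_mul' a b := Subtype.ext (IsAdj.unique hΦ (exists_adj g hΦ hg (a * b)).choose_spec fun u v => by
    rw [mul_comm (exists_adj g hΦ hg a).choose]
    show Φ.h ((a : Module.End F V) ((b : Module.End F V) u)) v = _
    exact ((exists_adj g hΦ hg a).choose_spec _ v).trans ((exists_adj g hΦ hg b).choose_spec u _))

theorem adjHom_spec (a : GA g) : IsAdj Φ (a : Module.End F V) (adjHom hΦ hg a) :=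
  (exists_adj g hΦ hg a).choose_spec

theorem adjHom_adjHom (a : GA g) : adjHom hΦ hg (adjHom hΦ hg a) = a :=
  Subtype.ext ((adjHom_spec hΦ hg _).unique hΦ (adjHom_spec hΦ hg a).symm)

theorem adjHom_algebraMap (c : F) : adjHom hΦ hg (algebraMap F _ c) = algebraMap F _ (Φ.σ c) :=
  Subtype.ext ((adjHom_spec hΦ hg _).unique hΦ fun u v => by
    show Φ.h (algebraMap F (Module.End F V) c u) v = Φ.h u (algebraMap F (Module.End F V) (Φ.σ c) v)
    rw [Module.algebraMap_end_apply, Module.algebraMap_end_apply, Φ.smul_left, Φ.smul_right, Φ.σσ])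

theorem adjHom_gen_mul : adjHom hΦ hg (gen g) * gen g = 1 :=
  Subtype.ext (LinearMap.ext fun v => sub_eq_zero.1 (hΦ _ fun u => by
    rw [Φ.sub_right]
    show Φ.h u (((adjHom hΦ hg (gen g) : GA g) : Module.End F V) (g v)) - Φ.h u v = 0
    rw [← adjHom_spec hΦ hg (gen g) u (g v)]
    exact sub_eq_zero.2 (hg u v)))

/-- The exponent `1 + Q + ⋯ + Q^(d-1)`. -/
def geomExp (Q d : ℕ) : ℕ := ∑ i ∈ Finset.range d, Q ^ i

universe u v in
/-- The residue field of a primitive corner. -/
theorem corner {F : Type u} [Field F] [Finite F] {V : Type v} [AddCommGroup V] [Module F V]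
    [FiniteDimensional F V] {g : Module.End F V} (e : GA g) (he : Prim e) :
    ∃ (K : Type v) (_ : Field K) (_ : Finite K) (_ : Algebra F K) (π : GA g →ₐ[F] K) (d L : ℕ),
      1 ≤ L ∧ Nat.card K = Nat.card F ^ d ∧ d * L = finrank F (LinearMap.range (e : Module.End F V)) ∧
      π e = 1 ∧ Function.Surjective π ∧ (∀ a, π a = 0 ↔ IsNilpotent (a * e)) ∧ (∀ a, π a = 0 → (a * e) ^ L = 0) ∧
      ∀ a : GA g, algebraMap F K (LinearMap.det ((a * e + (1 - e) : GA g) : Module.End F V)) =
        π a ^ (geomExp (Nat.card F) d * L) := by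
  classical
  haveI : Finite (Module.End F V) := Module.finite_of_finite F
  haveI := he.isMaximal
  letI : Field (GA g ⧸ cornerIdeal e) := Ideal.Quotient.field _
  haveI : Finite (GA g ⧸ cornerIdeal e) := Finite.of_surjective _ Ideal.Quotient.mk_surjective
  haveI : Module.Finite F (GA g ⧸ cornerIdeal e) := Module.Finite.of_finite
  obtain ⟨p, hp⟩ := CharP.exists F
  haveI := Fact.mk (CharP.char_is_prime F p)
  haveI : Nontrivial (GA g) := ⟨⟨e, 0, he.ne⟩⟩
  haveI : CharP (GA g) p := charP_of_injective_algebraMap (algebraMap F (GA g)).injective p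
  haveI : CharP (GA g ⧸ cornerIdeal e) p := charP_of_injective_algebraMap (algebraMap F (GA g ⧸ cornerIdeal e)).injective p
  haveI := Fintype.ofFinite (GA g ⧸ cornerIdeal e)
  haveI := Fintype.ofFinite F
  obtain ⟨f₀, -, hf₀⟩ := FiniteField.card F p
  obtain ⟨f, hf⟩ : ∃ f : ℕ, Fintype.card (GA g ⧸ cornerIdeal e) = p ^ f :=
    ⟨(f₀ : ℕ) * finrank F (GA g ⧸ cornerIdeal e), by rw [Module.card_eq_pow_finrank (K := F) (V := GA g ⧸ cornerIdeal e), hf₀, ← pow_mul]⟩
  set N := finrank F V
  set q₀ := Fintype.card (GA g ⧸ cornerIdeal e) ^ (N + 1) with hq₀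
  have hNq : N + 1 ≤ q₀ := (Nat.lt_pow_self Fintype.one_lt_card).le
  obtain ⟨f', hf'⟩ : ∃ f' : ℕ, q₀ = p ^ f' := ⟨f * (N + 1), by rw [hq₀, hf, ← pow_mul]⟩
  have hq0 : q₀ ≠ 0 := by omega
  have hFq : ∀ c : F, c ^ q₀ = c := fun c => (algebraMap F (GA g ⧸ cornerIdeal e)).injective (by
    rw [map_pow, hq₀]
    exact FiniteField.pow_card_pow _ _)
  have hnil : ∀ {x : GA g}, IsNilpotent x → x ^ q₀ = 0 := fun {x} ⟨k, hk⟩ => Subtype.ext (by
    have h1 : IsNilpotent (x : Module.End F V) := ⟨k, by rw [← SubmonoidClass.coe_pow, hk]; rfl⟩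
    have h2 : (x : Module.End F V) ^ N = 0 := by
      have := LinearMap.aeval_self_charpoly (x : Module.End F V)
      rwa [h1.charpoly_eq_X_pow_finrank, map_pow, Polynomial.aeval_X] at this
    show ((x : Module.End F V)) ^ q₀ = 0
    obtain ⟨t, ht⟩ := Nat.exists_eq_add_of_le (show N ≤ q₀ by omega)
    rw [ht, pow_add, h2, zero_mul])
  have hidem : ∀ {x : GA g}, x * x = x → x ^ q₀ = x := fun {x} hx => by
    obtain ⟨t, ht⟩ := Nat.exists_eq_succ_of_ne_zero hq0
    rw [ht]; exact IsIdempotentElem.pow_succ_eq t hx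
  -- the lifting of the residue field
  let ψ : (GA g ⧸ cornerIdeal e) → GA g := Quotient.lift (fun a => (a * e) ^ q₀) fun a b hab => by
    have h1 : IsNilpotent ((a - b) * e) := mem_cornerIdeal.1 ((Submodule.quotientRel_def _).1 hab)
    have h2 := hnil h1
    rw [sub_mul, hf', sub_pow_char_pow, sub_eq_zero, ← hf'] at h2
    exact h2
  have hψ : ∀ a : GA g, ψ (Ideal.Quotient.mk _ a) = (a * e) ^ q₀ := fun a => rfl
  have hψe : ∀ k, ψ k * e = ψ k := fun k => by
    obtain ⟨a, rfl⟩ := Ideal.Quotient.mk_surjective k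
    rw [hψ]
    obtain ⟨t, ht⟩ := Nat.exists_eq_succ_of_ne_zero hq0
    rw [ht, pow_succ, mul_assoc, mul_assoc, he.idem]
  set W := LinearMap.range (e : Module.End F V) with hW
  have hee : ∀ w ∈ W, (e : Module.End F V) w = w := by
    rintro _ ⟨v, rfl⟩
    exact LinearMap.congr_fun (congrArg Subtype.val he.idem) v
  have hpres : ∀ k, ∀ w ∈ W, (ψ k : Module.End F V) w ∈ W := fun k w _ =>
    ⟨(ψ k : Module.End F V) w, LinearMap.congr_fun (congrArg Subtype.val ((mul_comm e (ψ k)).trans (hψe k))) w⟩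
  let ρ : (GA g ⧸ cornerIdeal e) →+* Module.End F W :=
    { toFun := fun k => (ψ k : Module.End F V).restrict (hpres k)
      map_one' := LinearMap.ext fun w => Subtype.ext (by
        show ((ψ (Ideal.Quotient.mk _ 1) : GA g) : Module.End F V) w = w
        rw [hψ, one_mul, hidem he.idem]
        exact hee _ w.2)
      map_mul' := fun k k' => LinearMap.ext fun w => Subtype.ext (by
        obtain ⟨a, rfl⟩ := Ideal.Quotient.mk_surjective k
        obtain ⟨b, rfl⟩ := Ideal.Quotient.mk_surjective k'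
        show ((ψ (Ideal.Quotient.mk _ a * Ideal.Quotient.mk _ b) : GA g) : Module.End F V) w =
          ((ψ (Ideal.Quotient.mk _ a) * ψ (Ideal.Quotient.mk _ b) : GA g) : Module.End F V) w
        rw [← map_mul, hψ, hψ, hψ, ← mul_pow]
        have : a * b * e = a * e * (b * e) := by linear_combination -(a * b) * he.idem
        rw [this])
      map_zero' := LinearMap.ext fun w => Subtype.ext (by
        show ((ψ (Ideal.Quotient.mk _ 0) : GA g) : Module.End F V) w = 0
        rw [hψ, zero_mul, zero_pow hq0]; rfl)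
      map_add' := fun k k' => LinearMap.ext fun w => Subtype.ext (by
        obtain ⟨a, rfl⟩ := Ideal.Quotient.mk_surjective k
        obtain ⟨b, rfl⟩ := Ideal.Quotient.mk_surjective k'
        show ((ψ (Ideal.Quotient.mk _ a + Ideal.Quotient.mk _ b) : GA g) : Module.End F V) w =
          ((ψ (Ideal.Quotient.mk _ a) + ψ (Ideal.Quotient.mk _ b) : GA g) : Module.End F V) w
        rw [← map_add, hψ, hψ, hψ, add_mul, hf', add_pow_char_pow]) }
  letI : Module (GA g ⧸ cornerIdeal e) W := Module.compHom W ρ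
  have hsm : ∀ (k : (GA g ⧸ cornerIdeal e)) (w : W), ((k • w : W) : V) = (ψ k : Module.End F V) w := fun k w => rfl
  have hψalg : ∀ c : F, ψ (algebraMap F (GA g ⧸ cornerIdeal e) c) = algebraMap F (GA g) c * e := fun c => by
    rw [← Ideal.Quotient.mk_algebraMap, hψ, mul_pow, ← map_pow, hFq, hidem he.idem]
  haveI : IsScalarTower F (GA g ⧸ cornerIdeal e) W := ⟨fun c k w => Subtype.ext (by
    rw [Algebra.smul_def, mul_smul, SetLike.val_smul, hsm _ (k • w), hψalg]
    show c • (e : Module.End F V) ((k • w : W) : V) = _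
    rw [hee _ (k • w).2])⟩
  haveI : Module.Finite (GA g ⧸ cornerIdeal e) W := Module.Finite.of_restrictScalars_finite F (GA g ⧸ cornerIdeal e) W
  set L := finrank (GA g ⧸ cornerIdeal e) W
  set d := finrank F (GA g ⧸ cornerIdeal e)
  have hdL : d * L = finrank F W := finrank_mul_finrank F (GA g ⧸ cornerIdeal e) W
  let π : GA g →ₐ[F] (GA g ⧸ cornerIdeal e) := Ideal.Quotient.mkₐ F _
  have hπ0 : ∀ a, π a = 0 ↔ IsNilpotent (a * e) := fun a => Ideal.Quotient.eq_zero_iff_mem
  have hWnt : Nontrivial W := by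
    by_contra hc
    rw [not_nontrivial_iff_subsingleton] at hc
    refine he.ne (Subtype.ext (LinearMap.ext fun v => ?_))
    exact congrArg Subtype.val (Subsingleton.elim (⟨_, ⟨v, rfl⟩⟩ : W) 0)
  have hL : 1 ≤ L := Module.finrank_pos
  have hπe : π e = 1 := by
    refine sub_eq_zero.1 ((map_one π ▸ map_sub π e 1).symm.trans ((hπ0 _).2 ⟨1, ?_⟩))
    rw [pow_one, sub_mul, one_mul, he.idem, sub_self]
  refine ⟨(GA g ⧸ cornerIdeal e), inferInstance, inferInstance, inferInstance, π, d, L, hL, ?_, hdL, hπe, Ideal.Quotient.mk_surjective, hπ0, fun a ha => ?_, ?_⟩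
  · exact Module.natCard_eq_pow_finrank
  · obtain ⟨s, hs⟩ := (hπ0 a).1 ha
    have hmapsW : ∀ w ∈ W, ((a * e : GA g) : Module.End F V) w ∈ W := fun w _ =>
      ⟨((a * e : GA g) : Module.End F V) w,
        LinearMap.congr_fun (congrArg Subtype.val (show e * (a * e) = a * e by linear_combination a * he.idem)) w⟩
    let R : W →ₗ[(GA g ⧸ cornerIdeal e)] W :=
      { toFun := fun w => ⟨_, hmapsW w w.2⟩
        map_add' := fun w w' => Subtype.ext (map_add ((a * e : GA g) : Module.End F V) _ _)
        map_smul' := fun k w => Subtype.ext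
          (LinearMap.congr_fun (congrArg Subtype.val (mul_comm (a * e) (ψ k))) w) }
    have hRpow : ∀ (j : ℕ) (w : W), (((R ^ j) w : W) : V) = (((a * e) ^ j : GA g) : Module.End F V) w := by
      intro j
      induction j with
      | zero => intro w; rfl
      | succ j ih =>
        intro w
        rw [pow_succ', pow_succ', Module.End.mul_apply]
        show ((a * e : GA g) : Module.End F V) (((R ^ j) w : W) : V) = _
        rw [ih]; rfl
    have hR : IsNilpotent R := ⟨s, LinearMap.ext fun w => Subtype.ext (by rw [hRpow, hs]; rfl)⟩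
    have hRL : R ^ L = 0 := by
      have := LinearMap.aeval_self_charpoly R
      rwa [hR.charpoly_eq_X_pow_finrank, map_pow, Polynomial.aeval_X] at this
    refine Subtype.ext (LinearMap.ext fun v => ?_)
    have h1 := congrArg Subtype.val (LinearMap.congr_fun hRL ⟨_, ⟨v, rfl⟩⟩)
    rw [hRpow] at h1
    refine Eq.trans ?_ h1
    refine LinearMap.congr_fun (congrArg Subtype.val (show (a * e) ^ L = (a * e) ^ L * e from ?_)) v
    obtain ⟨t, ht⟩ := Nat.exists_eq_add_of_le hL
    rw [ht, pow_add, pow_one]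
    linear_combination -(a * (a * e) ^ t) * he.idem
  · intro a
    set x := π a
    have h1 : (a * e + (1 - e)) ^ q₀ = ψ x + (1 - e) := by
      rw [hf', add_pow_char_pow, ← hf', hidem (show (1 - e) * (1 - e) = 1 - e by linear_combination he.idem)]
      rfl
    have hQF : ∀ c : F, c ^ q₀ = c := hFq
    rw [← hQF (LinearMap.det _), ← map_pow LinearMap.det, ← SubmonoidClass.coe_pow, h1]
    have hcompl : IsCompl W (LinearMap.ker (e : Module.End F V)) := by
      refine ⟨Submodule.disjoint_def.2 fun w hw hk => ?_, codisjoint_iff.2 (eq_top_iff.2 fun v _ => ?_)⟩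
      · rw [← hee w hw]; exact hk
      · refine Submodule.mem_sup.2 ⟨(e : Module.End F V) v, ⟨v, rfl⟩, v - (e : Module.End F V) v, ?_, by abel⟩
        rw [LinearMap.mem_ker, map_sub, hee _ ⟨v, rfl⟩, sub_self]
    let eqv := Submodule.prodEquivOfIsCompl _ _ hcompl
    let S : W →ₗ[(GA g ⧸ cornerIdeal e)] W := x • LinearMap.id
    have hconj : (eqv : (W × LinearMap.ker (e : Module.End F V)) →ₗ[F] V) ∘ₗ
        (S.restrictScalars F).prodMap LinearMap.id ∘ₗ (eqv.symm : V →ₗ[F] _) =
        ((ψ x + (1 - e) : GA g) : Module.End F V) := by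
      refine LinearMap.ext fun v => ?_
      obtain ⟨⟨w, u⟩, rfl⟩ := eqv.surjective v
      simp only [LinearMap.comp_apply, LinearEquiv.coe_coe, LinearEquiv.symm_apply_apply]
      show ((x • w : W) : V) + (u : V) = (ψ x : Module.End F V) ((w : V) + u) +
        (((w : V) + u) - (e : Module.End F V) ((w : V) + u))
      have hu : (e : Module.End F V) (u : V) = 0 := u.2
      have hψu : (ψ x : Module.End F V) (u : V) = 0 :=
        (LinearMap.congr_fun (congrArg Subtype.val (hψe x)) (u : V)).symm.trans (by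
          show (ψ x : Module.End F V) ((e : Module.End F V) u) = 0
          rw [hu, map_zero])
      rw [map_add, map_add, hψu, hee _ w.2, hu, hsm]; abel
    rw [← hconj, LinearMap.det_conj, LinearMap.det_prodMap, LinearMap.det_id, mul_one,
      LinearMap.det_restrictScalars, show LinearMap.det S = x ^ L by
        rw [LinearMap.det_smul, LinearMap.det_id, mul_one],
      map_pow, map_pow, FiniteField.algebraMap_norm_eq_pow_sum, ← pow_mul]
    rfl

end CfsgLib.SpecAbsorb
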