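import Cfsg.Agent.Unitary.Special
import Cfsg.Agent.SpecAbsorb.Primary
import Cfsg.Agent.Spectrum.PSL
import Cfsg.Agent.Spectrum.MatrixOrder
import Mathlib.FieldTheory.Finite.Extension
import Mathlib.RingTheory.Trace.Basic

/-!
Elements of unitary groups from models of the Hermitian space: a Singer element and a regular unipotent.
-/

set_option autoImplicit false
set_option linter.style.haveILetI false
set_option maxHeartbeats 400000

namespace CfsgLib.SpecAbsorb

open Module Matrix CfsgLib.Forms CfsgLib.SpectrumPSL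

/-- The torus exponent of `SU_n(q)` on irreducible elements. -/
def suTor (q n : ℕ) : ℕ :=
  if Odd n then Nat.gcd (q ^ n + 1) (geo (q ^ 2) n) else Nat.gcd (q ^ n - 1) (geo (q ^ 2) (n / 2) * (q - 1))

/-- Its order in `PSU_n(q)`. -/
def psuTor (q n : ℕ) : ℕ := suTor q n / Nat.gcd (suTor q n) (q + 1)

variable {F : Type*} [Field F] [Finite F] {q : ℕ} (hF : Nat.card F = q ^ 2)

/-- A Hermitian form as a reflexive form. -/
noncomputable def hermR {W : Type*} [AddCommGroup W] [Module F W] (h : W → W → F)
    (add_left : ∀ u v w, h (u + v) w = h u w + h v w) (smul_left : ∀ (c : F) u v, h (c • u) v = c * h u v)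
    (swap : ∀ u v, h v u = frobQ hF (h u v)) : RForm F W where
  h := h
  σ := frobQ hF
  ε := 1
  σσ := frobQ_invol hF
  εσε := by simp
  add_left := add_left
  smul_left := smul_left
  swap u v := by rw [one_mul, swap]
  trace_valued v := by
    obtain ⟨t, ht⟩ := exists_add_σ_eq_one (frobQ_ne_id hF) (frobQ_invol hF)
    refine ⟨t * h v v, ?_⟩
    rw [one_mul, map_mul, ← swap v v, ← add_mul, ht, one_mul]

/-- An isometry of determinant one of a model gives an element of `SU_n`, functorially. -/
theorem exists_model {W : Type*} [AddCommGroup W] [Module F W] [FiniteDimensional F W] {n : ℕ}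
    (Φ : RForm F W) (hσ : Φ.σ = frobQ hF) (hε : Φ.ε = 1) (hΦ : Φ.Nondeg) (hn : finrank F W = n) :
    ∃ θ : Module.End F W ≃ₐ[F] Matrix (Fin n) (Fin n) F, ∀ g : Module.End F W,
      (∀ u v, Φ.h (g u) (g v) = Φ.h u v) → LinearMap.det g = 1 →
      ∃ A : Cfsg.SU n F q, (A.1 : Matrix (Fin n) (Fin n) F) = θ g := by
  classical
  let B : W →ₛₗ[frobQ hF] W →ₗ[F] F :=
    { toFun := fun v => Φ.toDual v
      map_add' := fun v v' => LinearMap.ext fun u => Φ.add_right u v v'
      map_smul' := fun c v => LinearMap.ext fun u => by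
        show Φ.h u (c • v) = frobQ hF c * Φ.h u v
        rw [Φ.smul_right, hσ] }
  have hB : ∀ u v, B v u = Φ.h u v := fun _ _ => rfl
  have hS : B.IsSymm := ⟨fun u v => by rw [hB, hB, Φ.swap v u, hε, one_mul, hσ]⟩
  have hnd : B.Nondegenerate := ⟨fun x hx => hΦ x fun u => hx u, fun y hy => hΦ y fun u => by
    rw [Φ.eq_zero_comm]; exact hy u⟩
  obtain ⟨b, hb⟩ := exists_orthonormal_herm (frobQ_ne_id hF) (frobQ_invol hF)
    (finite_norm_surjective (frobQ_ne_id hF) (frobQ_invol hF)) n W B hS hnd hn
  have hh : ∀ u v, Φ.h u v = Cfsg.hermForm n F q (b.equivFun u) (b.equivFun v) := by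
    intro u v
    conv_lhs => rw [← b.sum_repr u, ← b.sum_repr v]
    rw [Φ.sum_right, Cfsg.hermForm]
    refine Finset.sum_congr rfl fun j _ => ?_
    rw [Φ.smul_right, hσ, ← hB, map_sum, Finset.sum_eq_single j]
    · rw [map_smul, hb, if_pos rfl, smul_eq_mul, mul_one, frobQ_apply, mul_comm]
      rfl
    · intro i _ hij
      rw [map_smul, hb, if_neg (Ne.symm hij), smul_zero]
    · simp
  refine ⟨LinearMap.toMatrixAlgEquiv b, fun g hg hdet => ?_⟩
  have hdet' : (LinearMap.toMatrixAlgEquiv b g).det = 1 := by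
    rw [show LinearMap.toMatrixAlgEquiv b g = LinearMap.toMatrix b b g from rfl, LinearMap.det_toMatrix, hdet]
  refine ⟨⟨⟨_, hdet'⟩, fun x y => ?_⟩, rfl⟩
  obtain ⟨u, rfl⟩ := b.equivFun.surjective x
  obtain ⟨v, rfl⟩ := b.equivFun.surjective y
  have key : ∀ w, LinearMap.toMatrixAlgEquiv b g *ᵥ b.equivFun w = b.equivFun (g w) := fun w =>
    LinearMap.toMatrix_mulVec_repr b b g w
  show Cfsg.hermForm n F q (LinearMap.toMatrixAlgEquiv b g *ᵥ b.equivFun u)
    (LinearMap.toMatrixAlgEquiv b g *ᵥ b.equivFun v) = _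
  rw [key, key, ← hh, ← hh, hg]

include hF in
theorem trace_pow_q (K : Type*) [Field K] [Finite K] [Algebra F K] (z : K) :
    Algebra.trace F K (z ^ q) = (Algebra.trace F K z) ^ q := by
  haveI := Fintype.ofFinite F
  haveI : Module.Finite F K := Module.Finite.of_finite
  obtain ⟨p, k, hp, hp', hq⟩ := exists_charP_pow hF
  haveI := Fact.mk hp'
  haveI : CharP K p := charP_of_injective_algebraMap (algebraMap F K).injective p
  apply (algebraMap F K).injective
  rw [map_pow (algebraMap F K), FiniteField.algebraMap_trace_eq_sum_pow, FiniteField.algebraMap_trace_eq_sum_pow, hq,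
    sum_pow_char_pow]
  exact Finset.sum_congr rfl fun i _ => by rw [← pow_mul, ← pow_mul, mul_comm]

omit [Finite F] in
theorem trace_pow_card_pow [Fintype F] (K : Type*) [Field K] [Finite K] [Algebra F K] (j : ℕ) (z : K) :
    Algebra.trace F K (z ^ Fintype.card F ^ j) = Algebra.trace F K z := by
  haveI : Module.Finite F K := Module.Finite.of_finite
  induction j generalizing z with
  | zero => rw [pow_zero, pow_one]
  | succ j ih =>
    rw [pow_succ', pow_mul, ih]
    exact Algebra.trace_eq_of_algEquiv (FiniteField.frobeniusAlgEquivOfAlgebraic F K) z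

theorem traceForm_eq_zero {K : Type*} [Field K] [Finite K] [Algebra F K] {z : K}
    (h : ∀ u, Algebra.trace F K (u * z) = 0) : z = 0 := by
  haveI : Module.Finite F K := Module.Finite.of_finite
  refine (traceForm_nondegenerate F K).1 z fun u => ?_
  rw [Algebra.traceForm_apply, mul_comm]
  exact h u

include hF in
/-- The Singer element. -/
theorem exists_su_singer {n : ℕ} (hn : 3 ≤ n) :
    ∃ A : Cfsg.SU n F q, ∀ i : ℕ,
      (∃ c : F, ((A ^ i : Cfsg.SU n F q).1 : Matrix (Fin n) (Fin n) F) = c • 1) ↔ psuTor q n ∣ i := by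
  classical
  haveI := Fintype.ofFinite F
  have hcard : Fintype.card F = q ^ 2 := by rw [← Nat.card_eq_fintype_card, hF]
  obtain ⟨p, k, hp, hp', hq⟩ := exists_charP_pow hF
  haveI := Fact.mk hp'
  have hq2 : 2 ≤ q := two_le_q hF
  have hsT : 0 < suTor q n := by
    have hgeo : ∀ m, 0 < m → 0 < geo (q ^ 2) m := fun m hm =>
      Finset.sum_pos (fun i _ => pow_pos (pow_pos (by omega) 2) i) (by simpa using hm.ne')
    unfold suTor
    split_ifs
    · exact Nat.gcd_pos_of_pos_left _ (by omega)
    · exact Nat.gcd_pos_of_pos_right _ (Nat.mul_pos (hgeo _ (by omega)) (by omega))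
  -- the scalar criterion in the residue field
  have crit : ∀ {K : Type _} [Field K] [Finite K] [Algebra F K] (x : K), orderOf x = suTor q n → ∀ i : ℕ,
      ((∃ c : F, x ^ i = algebraMap F K c ∧ c ^ (q + 1) = 1) ↔ psuTor q n ∣ i) := by
    intro K _ _ _ x hx i
    rw [psuTor, ← dvd_mul_iff_div_gcd hsT, ← hx, orderOf_dvd_iff_pow_eq_one, pow_mul]
    constructor
    · rintro ⟨c, hc, hc1⟩
      rw [hc, ← map_pow, hc1, map_one]
    · intro h
      obtain ⟨c, hc⟩ := mem_base_of_pow_card (F := F) (x := x ^ i) (by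
        rw [hcard, show q ^ 2 = (q + 1) * (q - 1) + 1 by
          have := Nat.sq_sub_sq q 1; rw [one_pow] at this; rw [← this]; have := Nat.one_le_pow 2 q (by omega); omega,
          pow_succ, pow_mul, h, one_pow, one_mul])
      exact ⟨c, hc.symm, (algebraMap F K).injective (by rw [map_pow, hc, h, map_one])⟩
  by_cases ho : Odd n
  · haveI : NeZero n := ⟨by omega⟩
    let K := FiniteField.Extension F p n
    haveI : Module.Finite F K := Module.finite_of_finrank_pos (by rw [FiniteField.finrank_extension]; omega)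
    haveI : Finite K := Module.finite_of_finite F
    haveI : CharP K p := charP_of_injective_algebraMap (algebraMap F K).injective p
    have hKc : Nat.card K = q ^ (2 * n) := by rw [FiniteField.natCard_extension, hF, ← pow_mul]
    have hT : suTor q n ∣ Nat.card Kˣ := by
      rw [suTor, if_pos ho, Nat.card_units, hKc, mul_comm 2 n, pow_mul]
      refine (Nat.gcd_dvd_left _ _).trans ⟨q ^ n - 1, ?_⟩
      simpa using Nat.sq_sub_sq (q ^ n) 1
    obtain ⟨g₀, hg₀⟩ := IsCyclic.exists_ofOrder_eq_natCard (α := Kˣ)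
    obtain ⟨ζ, hζ⟩ := CfsgLib.Spectrum.exists_orderOf_eq_of_dvd (orderOf_pos g₀) (hg₀ ▸ hT)
    set x : K := (ζ : K)
    have hx : orderOf x = suTor q n := by rw [orderOf_units, hζ]
    have hxQ : x * x ^ q ^ n = 1 := by
      rw [← pow_succ']
      exact orderOf_dvd_iff_pow_eq_one.1 (by rw [hx, suTor, if_pos ho]; exact Nat.gcd_dvd_left _ _)
    obtain ⟨j, hj⟩ := ho
    have hQQ : ∀ v : K, (v ^ q ^ n) ^ q ^ n = v := fun v => by
      rw [← pow_mul, ← pow_add, ← two_mul, ← hKc]
      haveI := Fintype.ofFinite K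
      rw [Nat.card_eq_fintype_card]
      exact FiniteField.pow_card v
    let Φ := hermR hF (fun u v : K => Algebra.trace F K (u * v ^ q ^ n))
      (fun u v w => by rw [add_mul, map_add]) (fun c u v => by rw [smul_mul_assoc, map_smul, smul_eq_mul])
      (fun u v => by
        rw [frobQ_apply, ← trace_pow_q hF, ← trace_pow_card_pow (F := F) K j ((u * v ^ q ^ n) ^ q), ← pow_mul,
          hcard, ← pow_mul, ← pow_succ', show 2 * j + 1 = n from hj.symm, mul_pow, hQQ, mul_comm])
    have hΦ : Φ.Nondeg := fun v hv => by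
      have : v ^ q ^ n = 0 := traceForm_eq_zero hv
      exact eq_zero_of_pow_eq_zero this
    obtain ⟨θ, hθ⟩ := exists_model hF Φ rfl rfl hΦ (FiniteField.finrank_extension F p n)
    obtain ⟨A, hA⟩ := hθ (Algebra.lmul F K x) (fun u v => by
        show Algebra.trace F K (x * u * (x * v) ^ q ^ n) = Algebra.trace F K (u * v ^ q ^ n)
        rw [mul_pow, mul_mul_mul_comm, hxQ, one_mul]) (by
      rw [show LinearMap.det (Algebra.lmul F K x) = Algebra.norm F x from (Algebra.norm_apply F x).symm]
      apply (algebraMap F K).injective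
      rw [FiniteField.algebraMap_norm_eq_pow_sum, map_one, FiniteField.finrank_extension, hF,
        ← orderOf_dvd_iff_pow_eq_one, hx, suTor, if_pos ⟨j, hj⟩]
      exact Nat.gcd_dvd_right _ _)
    refine ⟨A, fun i => ?_⟩
    rw [← crit x hx i, SubmonoidClass.coe_pow, Matrix.SpecialLinearGroup.coe_pow, hA, ← map_pow]
    refine exists_congr fun c => ?_
    rw [show (c • 1 : Matrix (Fin n) (Fin n) F) = θ (Algebra.lmul F K (algebraMap F K c)) by
      rw [AlgHom.commutes, AlgEquiv.commutes, Algebra.algebraMap_eq_smul_one], θ.injective.eq_iff, ← map_pow,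
      Algebra.lmul_injective.eq_iff]
    refine ⟨fun h => ⟨h, ?_⟩, And.left⟩
    have h1 : (x * x ^ q ^ n) ^ i = 1 := by rw [hxQ, one_pow]
    rw [mul_pow, ← pow_mul, mul_comm _ i, pow_mul, h, ← map_pow, ← map_mul] at h1
    have h2 : c * c ^ q ^ n = 1 := (algebraMap F K).injective (by rw [h1, map_one])
    rwa [hj, pow_succ, pow_mul q 2 j, ← hcard, pow_mul, FiniteField.pow_card_pow, ← pow_succ'] at h2
  · obtain ⟨D, hD⟩ : Even n := Nat.not_odd_iff_even.1 ho
    haveI : NeZero D := ⟨by omega⟩
    let K := FiniteField.Extension F p D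
    haveI : Module.Finite F K := Module.finite_of_finrank_pos (by rw [FiniteField.finrank_extension]; omega)
    haveI : Finite K := Module.finite_of_finite F
    haveI : CharP K p := charP_of_injective_algebraMap (algebraMap F K).injective p
    have hKc : Nat.card K = q ^ n := by rw [FiniteField.natCard_extension, hF, ← pow_mul, hD, two_mul]
    have hT : suTor q n ∣ Nat.card Kˣ := by
      rw [suTor, if_neg ho, Nat.card_units, hKc]
      exact Nat.gcd_dvd_left _ _
    obtain ⟨g₀, hg₀⟩ := IsCyclic.exists_ofOrder_eq_natCard (α := Kˣ)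
    obtain ⟨ζ, hζ⟩ := CfsgLib.Spectrum.exists_orderOf_eq_of_dvd (orderOf_pos g₀) (hg₀ ▸ hT)
    set x : K := (ζ : K)
    have hx : orderOf x = suTor q n := by rw [orderOf_units, hζ]
    have hπ : ∀ u v : K, (u + v) ^ q = u ^ q + v ^ q := fun u v => by rw [hq, add_pow_char_pow]
    let π : K →+* K :=
      { toFun := fun v => v ^ q
        map_one' := one_pow q
        map_mul' := fun u v => mul_pow u v q
        map_zero' := zero_pow (by omega)
        map_add' := hπ }
    have hπv : ∀ v, π v = v ^ q := fun v => rfl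
    obtain ⟨y, hy⟩ : ∃ y, π y = x⁻¹ := (Finite.injective_iff_surjective.1 π.injective) _
    have hxy : x * π y = 1 := by rw [hy, mul_inv_cancel₀ ζ.ne_zero]
    let Φ := hermR hF (fun u v : K × K =>
        Algebra.trace F K (u.1 * π v.2) + frobQ hF (Algebra.trace F K (v.1 * π u.2)))
      (fun u v w => by simp only [Prod.fst_add, Prod.snd_add, map_add, add_mul, mul_add]; ring)
      (fun c u v => by
        have h1 : frobQ hF (Algebra.trace F K (v.1 * π (c • u).2)) =
            c * frobQ hF (Algebra.trace F K (v.1 * π u.2)) := by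
          rw [Prod.smul_snd, Algebra.smul_def, map_mul π, hπv (algebraMap F K c), ← map_pow, mul_left_comm,
            ← Algebra.smul_def, map_smul, smul_eq_mul, map_mul, ← frobQ_apply hF c, frobQ_invol]
        rw [h1, Prod.smul_fst, smul_mul_assoc, map_smul, smul_eq_mul]; ring)
      (fun u v => by rw [map_add, frobQ_invol]; ring)
    have hΦ : Φ.Nondeg := fun v hv => by
      have h1 : v.2 = 0 := by
        refine π.injective ((traceForm_eq_zero (F := F) fun u => ?_).trans (map_zero π).symm)
        have := hv (u, 0)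
        simpa [Φ, hermR] using this
      have h2 : v.1 = 0 := by
        refine traceForm_eq_zero (F := F) fun u => ?_
        obtain ⟨w, rfl⟩ := (Finite.injective_iff_surjective.1 π.injective) u
        have h := hv (0, w)
        simp only [Φ, hermR, zero_mul, map_zero, zero_add] at h
        rw [mul_comm]
        exact (frobQ hF).injective (h.trans (map_zero _).symm)
      exact Prod.ext h2 h1
    obtain ⟨θ, hθ⟩ := exists_model hF Φ rfl rfl hΦ (W := K × K) (n := n)
      (by rw [Module.finrank_prod, FiniteField.finrank_extension, hD])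
    let g : K → K → Module.End F (K × K) := fun a b => (Algebra.lmul F K a).prodMap (Algebra.lmul F K b)
    obtain ⟨A, hA⟩ := hθ (g x y) (fun u v => by
        show Algebra.trace F K (x * u.1 * π (y * v.2)) + frobQ hF (Algebra.trace F K (x * v.1 * π (y * u.2))) = _
        rw [map_mul π, map_mul π, mul_mul_mul_comm, hxy, one_mul, mul_mul_mul_comm, hxy, one_mul]
        rfl) (by
      rw [LinearMap.det_prodMap, show LinearMap.det (Algebra.lmul F K x) = Algebra.norm F x from (Algebra.norm_apply F x).symm,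
        show LinearMap.det (Algebra.lmul F K y) = Algebra.norm F y from (Algebra.norm_apply F y).symm]
      have hz : Algebra.norm F x ^ (q - 1) = 1 := by
        apply (algebraMap F K).injective
        rw [map_pow, FiniteField.algebraMap_norm_eq_pow_sum, map_one, ← pow_mul, FiniteField.finrank_extension, hF,
          ← orderOf_dvd_iff_pow_eq_one, hx, suTor, if_neg ho, show n / 2 = D by omega]
        exact Nat.gcd_dvd_right _ _
      have hzq : frobQ hF (Algebra.norm F x) = Algebra.norm F x := by
        rw [frobQ_apply, show q = q - 1 + 1 by omega, pow_succ, hz, one_mul]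
      apply (frobQ hF).injective
      rw [map_mul, hzq, map_one, frobQ_apply, ← map_pow, ← map_mul, ← hπv, hxy, map_one])
    refine ⟨A, fun i => ?_⟩
    rw [← crit x hx i, SubmonoidClass.coe_pow, Matrix.SpecialLinearGroup.coe_pow, hA, ← map_pow]
    refine exists_congr fun c => ?_
    have hgi : g x y ^ i = g (x ^ i) (y ^ i) := by
      induction i with
      | zero => ext <;> simp [g]
      | succ i ih => rw [pow_succ, ih]; ext <;> simp [g, pow_succ, mul_assoc]
    rw [show (c • 1 : Matrix (Fin n) (Fin n) F) = θ (algebraMap F _ c) by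
      rw [AlgEquiv.commutes, Algebra.algebraMap_eq_smul_one], θ.injective.eq_iff, hgi]
    have hii : x ^ i * π (y ^ i) = 1 := by rw [map_pow, ← mul_pow, hxy, one_pow]
    constructor
    · intro h
      have hxi : x ^ i = algebraMap F K c := by
        have := congrArg Prod.fst (LinearMap.congr_fun h (1, 0))
        simpa [g, Algebra.algebraMap_eq_smul_one] using this
      have hyi : y ^ i = algebraMap F K c := by
        have := congrArg Prod.snd (LinearMap.congr_fun h (0, 1))
        simpa [g, Algebra.algebraMap_eq_smul_one] using this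
      rw [hxi, hyi, hπv, ← map_pow, ← map_mul, ← pow_succ'] at hii
      exact ⟨hxi, (algebraMap F K).injective (hii.trans (map_one _).symm)⟩
    · rintro ⟨hxi, hc⟩
      have hyi : y ^ i = algebraMap F K c := by
        apply π.injective
        have h1 : algebraMap F K c * π (algebraMap F K c) = 1 := by
          rw [hπv, ← map_pow, ← map_mul, ← pow_succ', hc, map_one]
        rw [hxi] at hii
        exact mul_left_cancel₀ (left_ne_zero_of_mul_eq_one h1) (hii.trans h1.symm)
      rw [hxi, hyi]
      ext <;> simp [g, Algebra.smul_def]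

include hF in
/-- A regular unipotent element. -/
theorem exists_su_unip {p : ℕ} [Fact p.Prime] [CharP F p] {k K : ℕ} (hk : 2 ≤ k) (h1 : k ≤ p ^ K)
    (h2 : p ^ (K - 1) < k) : ∃ A : Cfsg.SU k F q, orderOf A = p ^ K := by
  classical
  obtain ⟨α, hα⟩ : ∃ α, frobQ hF α ≠ α := by
    by_contra hc
    push Not at hc
    exact frobQ_ne_id hF (RingHom.ext hc)
  set β := frobQ hF α with hβ
  let N : Matrix (Fin k) (Fin k) F := CfsgLib.MatOrder.shift F k
  let P : F → Matrix (Fin k) (Fin k) F := fun a => 1 + a • N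
  have hPdet : ∀ a, (P a).det = 1 := fun a => by
    rw [Matrix.det_of_isUpperTriangular]
    · exact Finset.prod_eq_one fun i _ => by simp [P, N, CfsgLib.MatOrder.shift]
    · intro i l (hil : l < i)
      have h1 : i ≠ l := ne_of_gt hil
      have h2 : ¬ (l : ℕ) = i + 1 := by omega
      simp [P, N, CfsgLib.MatOrder.shift, h1, h2]
  have hPu : ∀ a, IsUnit (P a).det := fun a => by rw [hPdet]; exact isUnit_one
  have hcomm : ∀ a b, Commute (P a) (P b) := fun a b =>
    ((Commute.one_left _).add_left ((Commute.one_right _).add_right (((Commute.refl N).smul_left a).smul_right b)))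
  set U := P α * (P β)⁻¹ with hU
  let Φ := hermR hF (fun u v : Fin k → F => ∑ i, u i * frobQ hF (v (Fin.rev i)))
    (fun u v w => by simp [add_mul, Finset.sum_add_distrib])
    (fun c u v => by simp [Finset.mul_sum, mul_assoc])
    (fun u v => by
      rw [map_sum, ← Equiv.sum_comp Fin.revPerm]
      refine Finset.sum_congr rfl fun i _ => ?_
      rw [Fin.revPerm_apply, Fin.rev_rev, map_mul, frobQ_invol, mul_comm])
  have hΦ : Φ.Nondeg := fun v hv => by
    funext i
    have h := hv (Pi.single (Fin.rev i) 1)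
    simp only [Φ, hermR, Pi.single_apply, ite_mul, one_mul, zero_mul, Finset.sum_ite_eq', Finset.mem_univ, if_true,
      Fin.rev_rev] at h
    exact (frobQ hF).injective (h.trans (map_zero _).symm)
  -- `P a` and `P (σ a)` are adjoint
  have hadj : ∀ a u v, Φ.h (P a *ᵥ u) v = Φ.h u (P (frobQ hF a) *ᵥ v) := by
    intro a u v
    have hN : ∀ u v, Φ.h (N *ᵥ u) v = Φ.h u (N *ᵥ v) := by
      intro u v
      show ∑ i, (N *ᵥ u) i * frobQ hF (v (Fin.rev i)) = ∑ i, u i * frobQ hF ((N *ᵥ v) (Fin.rev i))
      simp only [Matrix.mulVec, dotProduct, Finset.sum_mul, map_sum, Finset.mul_sum, map_mul]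
      rw [Finset.sum_comm]
      refine Finset.sum_congr rfl fun i _ => ?_
      rw [← Equiv.sum_comp Fin.revPerm]
      refine Finset.sum_congr rfl fun j _ => ?_
      rw [Fin.revPerm_apply, Fin.rev_rev]
      simp only [N, CfsgLib.MatOrder.shift, Matrix.of_apply, Fin.val_rev]
      have h1 : ((i : ℕ) = k - ((j : ℕ) + 1) + 1) ↔ ((j : ℕ) = k - ((i : ℕ) + 1) + 1) := by omega
      by_cases h : (i : ℕ) = k - ((j : ℕ) + 1) + 1
      · rw [if_pos h, if_pos (h1.1 h)]; simp
      · rw [if_neg h, if_neg (fun e => h (h1.2 e))]; simp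
    simp only [P, Matrix.add_mulVec, Matrix.one_mulVec, Matrix.smul_mulVec, Φ.add_left, Φ.add_right,
      Φ.smul_left, Φ.smul_right, hN]
    rw [show Φ.σ (frobQ hF a) = a from frobQ_invol hF a]
  have hg : ∀ u v, Φ.h (U *ᵥ u) (U *ᵥ v) = Φ.h u v := by
    intro u v
    have e1 : ∀ w, P β *ᵥ ((P β)⁻¹ *ᵥ w) = w := fun w => by
      rw [Matrix.mulVec_mulVec, Matrix.mul_nonsing_inv _ (hPu β), Matrix.one_mulVec]
    conv_rhs => rw [← e1 u, ← e1 v]
    rw [hU, ← Matrix.mulVec_mulVec, ← Matrix.mulVec_mulVec, hadj, hadj, hβ, frobQ_invol]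
    simp only [Matrix.mulVec_mulVec, ← mul_assoc, (hcomm (frobQ hF α) α).eq]
  obtain ⟨θ, hθ⟩ := exists_model hF Φ rfl rfl hΦ (W := Fin k → F) (n := k) (Module.finrank_fin_fun F)
  obtain ⟨A, hA⟩ := hθ (Matrix.toLinAlgEquiv' U)
    (fun u v => by rw [Matrix.toLinAlgEquiv'_apply, Matrix.toLinAlgEquiv'_apply]; exact hg u v) (by
    rw [show LinearMap.det (Matrix.toLinAlgEquiv' U) = LinearMap.det (Matrix.toLin' U) from rfl,
      LinearMap.det_toLin', hU, Matrix.det_mul, Matrix.det_nonsing_inv, hPdet, hPdet, Ring.inverse_one, one_mul])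
  refine ⟨A, ?_⟩
  let φ : Cfsg.SU k F q →* Matrix (Fin k) (Fin k) F := (Cfsg.slToMat k F).comp (Cfsg.SU k F q).subtype
  have hφ : Function.Injective φ := fun a b h => Subtype.ext (Subtype.ext h)
  rw [← orderOf_injective φ hφ A, show φ A = θ (Matrix.toLinAlgEquiv' U) from hA,
    show orderOf (θ (Matrix.toLinAlgEquiv' U)) = orderOf U from
      (MulEquiv.orderOf_eq θ.toMulEquiv _).trans
        (MulEquiv.orderOf_eq (Matrix.toLinAlgEquiv' : Matrix (Fin k) (Fin k) F ≃ₐ[F] _).toMulEquiv U)]
  haveI : Nonempty (Fin k) := ⟨⟨0, by omega⟩⟩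
  have hU1 : U - 1 = ((α - β) • N) * (P β)⁻¹ := by
    rw [hU, show (α - β) • N = P α - P β by simp [P, sub_smul], sub_mul, Matrix.mul_nonsing_inv _ (hPu β)]
  have hNc : Commute ((α - β) • N) (P β)⁻¹ := by
    have h : Commute N (P β) := (Commute.one_right _).add_right ((Commute.refl N).smul_right β)
    show _ = _
    rw [smul_mul_assoc, mul_smul_comm]
    congr 1
    calc N * (P β)⁻¹ = (P β)⁻¹ * (P β * N) * (P β)⁻¹ := by
          rw [← mul_assoc, Matrix.nonsing_inv_mul _ (hPu β), one_mul]
      _ = _ := by rw [← h.eq, mul_assoc, mul_assoc, Matrix.mul_nonsing_inv _ (hPu β), mul_one]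
  have hpow : ∀ j, U ^ p ^ j = 1 ↔ N ^ p ^ j = 0 := fun j => by
    rw [← sub_eq_zero, ← one_pow (p ^ j), ← sub_pow_char_pow_of_commute p _ (Commute.one_right U), hU1, hNc.mul_pow,
      ((Matrix.isUnit_nonsing_inv_iff.2 ((Matrix.isUnit_iff_isUnit_det _).2 (hPu β))).pow _).mul_left_eq_zero,
      _root_.smul_pow, smul_eq_zero]
    exact or_iff_right (pow_ne_zero _ (sub_ne_zero.2 (Ne.symm hα)))
  obtain ⟨J, rfl⟩ : ∃ J, K = J + 1 := ⟨K - 1, by
    rcases K with _ | K
    · simp at h1; omega
    · omega⟩
  refine orderOf_eq_prime_pow (fun h => ?_) ((hpow _).2 ?_)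
  · rw [hpow, CfsgLib.MatOrder.shift_pow] at h
    simp only [Nat.add_sub_cancel] at h2
    have h3 := congrFun (congrFun h ⟨0, by omega⟩) ⟨p ^ J, h2⟩
    simp at h3
  · rw [CfsgLib.MatOrder.shift_pow]
    ext i l
    have : ¬ (l : ℕ) = i + p ^ (J + 1) := by omega
    simp [this]

end CfsgLib.SpecAbsorb
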