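import Cfsg.Agent.SpecAbsorb.Sp

/-!
`PSp_{2n}(q)`, `q` odd: an element `g` of odd order with `det (g - g⁻¹)` a non-zero square is centralised by
an involution.
-/

set_option autoImplicit false
set_option linter.style.haveILetI false
set_option maxHeartbeats 400000

namespace CfsgLib.SpecAbsorb

open Matrix Module CfsgLib.Forms

variable {F : Type*} [Field F] [Fintype F] {p : ℕ} [Fact p.Prime] [CharP F p] {n : ℕ}

local notation "Sp" n => Matrix.symplecticGroup (Fin n) F

omit [Fintype F] [Fact p.Prime] [CharP F p] in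
/-- A commuting proper self-adjoint idempotent gives an involution. -/
theorem real_of_idem (h2 : (1 : F) ≠ -1) (A : Sp n) (hA : Odd (orderOf A))
    {e : Module.End F (Fin n ⊕ Fin n → F)} (he : e * e = e) (he0 : e ≠ 0) (he1 : e ≠ 1)
    (hce : Commute (Matrix.toLinAlgEquiv' A.1) e) (hee : IsAdj (sForm F (Fin n)) e e) :
    ∃ y : Cfsg.PSp n F, Nat.lcm (orderOf A) 2 ∣ orderOf y := by
  classical
  let T := (Matrix.toLinAlgEquiv' : Matrix (Fin n ⊕ Fin n) (Fin n ⊕ Fin n) F ≃ₐ[F] _)
  set s : Module.End F (Fin n ⊕ Fin n → F) := e + e - 1 with hs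
  have hss : s * s = 1 := by
    rw [hs]; simp only [add_mul, mul_add, sub_mul, mul_sub, he, one_mul, mul_one]; abel
  have hsa : IsAdj (sForm F (Fin n)) s s := fun u v => by
    simp only [hs, LinearMap.sub_apply, LinearMap.add_apply, Module.End.one_apply, RForm.sub_left,
      RForm.sub_right, (sForm F (Fin n)).add_left, RForm.add_right]
    rw [hee u v]
  let t : Sp n := ⟨T.symm s, CfsgLib.Symp.mem_iff_form.2 fun u v => by
    rw [← Matrix.toLinAlgEquiv'_apply, ← Matrix.toLinAlgEquiv'_apply]
    show (sForm F (Fin n)).h (T (T.symm s) u) (T (T.symm s) v) = (sForm F (Fin n)).h u v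
    rw [T.apply_symm_apply, hsa u (s v), ← Module.End.mul_apply, hss, Module.End.one_apply]⟩
  have htt : t * t = 1 := Subtype.ext (by
    show T.symm s * T.symm s = 1
    rw [← map_mul, hss, map_one])
  have ht : t ∉ Subgroup.center (Sp n) := by
    intro h
    rcases CfsgLib.Symp.mem_center_iff.1 h with h' | h' <;>
      [have h1 : s = 1 := T.symm.injective (h'.trans (map_one _).symm);
       have h1 : s = -1 := T.symm.injective (h'.trans (by rw [map_neg, map_one]))]
    · refine he1 (LinearMap.ext fun v => ?_)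
      have h3 : (2 : F) • (e v - v) = 0 := by
        rw [two_smul]
        have := LinearMap.congr_fun h1 v
        simp only [hs, LinearMap.sub_apply, LinearMap.add_apply, Module.End.one_apply] at this
        linear_combination (norm := abel) this
      exact sub_eq_zero.1 ((smul_eq_zero.1 h3).resolve_left fun h => h2 (by linear_combination h))
    · refine he0 (LinearMap.ext fun v => ?_)
      have h3 : (2 : F) • e v = 0 := by
        rw [two_smul]
        have := LinearMap.congr_fun h1 v
        simp only [hs, LinearMap.sub_apply, LinearMap.add_apply, Module.End.one_apply,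
          LinearMap.neg_apply] at this
        linear_combination (norm := abel) this
      exact (smul_eq_zero.1 h3).resolve_left fun h => h2 (by linear_combination h)
  have hc : Commute A t := Subtype.ext (by
    show A.1 * T.symm s = T.symm s * A.1
    have hgs : T A.1 * s = s * T A.1 := by
      rw [hs]; simp only [mul_sub, sub_mul, mul_add, add_mul, mul_one, one_mul, hce.eq, T]
    rw [← T.symm_apply_apply A.1, ← map_mul, ← map_mul, hgs])
  have := two_mul_dvd hA htt ht hc
  exact ⟨_, Nat.lcm_dvd ((dvd_mul_left _ 2).trans this) ((dvd_mul_right 2 _).trans this)⟩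

universe u v

omit [Fact p.Prime] [CharP F p] in
/-- The cases for an isometry `g` with `det (g - g⁻¹)` a non-zero square. -/
theorem square_cases {F : Type u} [Field F] [Fintype F] {V : Type v} [AddCommGroup V] [Module F V]
    [FiniteDimensional F V] [Nontrivial V] {Φ : RForm F V} {g : Module.End F V} (hΦ : Φ.Nondeg)
    (hg : ∀ u v, Φ.h (g u) (g v) = Φ.h u v) (hσ : ∀ c, Φ.σ c = c) (h20 : (2 : F) ≠ 0)
    (hq : Odd (Fintype.card F)) (hdim : finrank F V = 2 * n) {a : ℕ} (ha : 1 ≤ a) (hgo : g ^ a = 1)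
    (hd0 : LinearMap.det (g - g ^ (a - 1)) ≠ 0) (hsq : IsSquare (LinearMap.det (g - g ^ (a - 1)))) :
    (∃ e : Module.End F V, e * e = e ∧ e ≠ 0 ∧ e ≠ 1 ∧ Commute g e ∧ IsAdj Φ e e) ∨
    (∃ h L : ℕ, 1 ≤ L ∧ h * L = n ∧ (g ^ (Fintype.card F ^ h + 1) - 1) ^ L = 0 ∧
      (L = 1 → 4 ∣ Fintype.card F ^ h + 1)) ∨
    (∃ d L : ℕ, 1 ≤ L ∧ d * L = n ∧ (g ^ (Fintype.card F ^ d - 1) - 1) ^ L = 0 ∧
      (L = 1 → 4 ∣ Fintype.card F ^ d - 1)) := by
  classical
  haveI : Nontrivial (GA g) := ⟨⟨0, 1, fun h => zero_ne_one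
    (congrArg Subtype.val h : (0 : Module.End F V) = 1)⟩⟩
  set τ := adjHom hΦ hg
  have hττ : ∀ x, τ (τ x) = x := adjHom_adjHom hΦ hg
  set z : GA g := gen g - τ (gen g) with hz
  have hτz : τ z = -z := by rw [hz, map_sub, hττ, neg_sub]
  have hga : gen g ^ a = 1 := Subtype.ext hgo
  have hτg : τ (gen g) = gen g ^ (a - 1) := by
    calc τ (gen g) = τ (gen g) * gen g ^ (1 + (a - 1)) := by
          rw [Nat.add_sub_cancel' ha, hga, mul_one]
      _ = gen g ^ (a - 1) := by rw [pow_add, pow_one, ← mul_assoc, adjHom_gen_mul, one_mul]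
  have hzv : (z : Module.End F V) = g - g ^ (a - 1) := by rw [hz, hτg]; rfl
  rw [← hzv] at hd0 hsq
  obtain ⟨c, hc⟩ := hsq
  have hc0 : c ≠ 0 := fun e => hd0 (by rw [hc, e, mul_zero])
  have hKq : Nat.card F = Fintype.card F := Nat.card_eq_fintype_card
  have hq2 : 2 ≤ Fintype.card F := Fintype.one_lt_card
  have hn : 1 ≤ n := by have := Module.finrank_pos (R := F) (M := V); omega
  rcases idem_cases τ hττ with ⟨e, he, hτe, he0, he1⟩ | he | ⟨e, he, he2⟩
  · refine Or.inl ⟨e, congrArg Subtype.val he, fun h => he0 (Subtype.ext h), fun h => he1 (Subtype.ext h),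
      congrArg Subtype.val (mul_comm (gen g) e), ?_⟩
    have := adjHom_spec hΦ hg e
    rwa [show adjHom hΦ hg e = e from hτe] at this
  · obtain ⟨K, iK, fK, aK, π, d, L, hL, hK, hdL, -, hsurj, hπ0, hπL, hdet⟩ := corner 1 he
    rw [show LinearMap.range ((1 : GA g) : Module.End F V) = ⊤ from
      LinearMap.range_eq_top.2 fun v => ⟨v, rfl⟩, finrank_top, hdim] at hdL
    have hker : RingHom.ker π.toRingHom ≤ RingHom.ker (π.toRingHom.comp τ) := fun b hb => by
      rw [RingHom.mem_ker] at hb ⊢
      obtain ⟨s, hs⟩ := (hπ0 b).1 hb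
      refine (hπ0 _).2 ⟨s, ?_⟩
      rw [mul_one] at hs ⊢
      rw [← map_pow, hs, map_zero]
    let τK : K →+* K := π.toRingHom.liftOfSurjective hsurj ⟨π.toRingHom.comp τ, hker⟩
    have hτK : ∀ b, τK (π b) = π (τ b) := fun b =>
      RingHom.liftOfRightInverse_comp_apply _ _ (Function.rightInverse_surjInv hsurj) ⟨π.toRingHom.comp τ, hker⟩ b
    have hττK : ∀ k, τK (τK k) = k := fun k => by
      obtain ⟨b, rfl⟩ := hsurj k
      rw [hτK, hτK, hττ]
    have hdz := hdet z
    rw [mul_one, sub_self, add_zero] at hdz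
    set z0 := π z with hz0
    have hz00 : z0 ≠ 0 := fun e => by
      rcases Nat.eq_zero_or_pos (geomExp (Nat.card F) d * L) with h0 | h0
      · rcases Nat.mul_eq_zero.1 h0 with h0 | h0
        · rcases Nat.eq_zero_or_pos d with rfl | hd
          · simp at hdL; omega
          · have : (Nat.card F) ^ 0 ≤ geomExp (Nat.card F) d :=
              Finset.single_le_sum (f := fun i => Nat.card F ^ i) (fun i _ => Nat.zero_le _)
                (Finset.mem_range.2 hd)
            rw [h0, pow_zero] at this; omega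
        · omega
      · rw [e, zero_pow h0.ne', map_eq_zero] at hdz
        exact hd0 hdz
    have hid : τK ≠ RingHom.id K := fun hid => by
      have h := hτK z
      rw [hid, RingHom.id_apply, hτz, map_neg, ← hz0] at h
      have h' : (2 : K) * z0 = 0 := by linear_combination h
      refine hz00 ((mul_eq_zero.1 h').resolve_left fun e => h20 ((algebraMap F K).injective ?_))
      rw [map_ofNat, map_zero, e]
    obtain ⟨Q, hQ, hQτ⟩ := (involution_eq_pow τK hττK).resolve_left hid
    haveI : Module.Finite F K := Module.Finite.of_finite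
    have hτF : ∀ c, τK (algebraMap F K c) = algebraMap F K c := fun c => by
      rw [← π.commutes c, hτK, show τ (algebraMap F (GA g) c) = algebraMap F (GA g) c from
        by rw [adjHom_algebraMap hΦ hg c, hσ]]
    let eK : K ≃ₐ[F] K := AlgEquiv.ofBijective (AlgHom.mk τK hτF) ⟨τK.injective, fun k => ⟨τK k, hττK k⟩⟩
    have he2 : orderOf eK = 2 := orderOf_eq_prime (AlgEquiv.ext fun k => hττK k)
      fun h => hid (RingHom.ext fun k => AlgEquiv.congr_fun h k)
    have hd : d = finrank F K :=
      Nat.pow_right_injective (hKq.symm ▸ hq2) (hK.symm.trans Module.natCard_eq_pow_finrank)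
    obtain ⟨h, rfl⟩ : 2 ∣ d := by
      rw [hd, ← IsGalois.card_aut_eq_finrank F K, ← he2]
      exact orderOf_dvd_natCard eK
    have hQh : Q = Fintype.card F ^ h := by
      rw [hK, hKq, mul_comm 2 h, pow_mul] at hQ
      exact Nat.pow_left_injective two_ne_zero hQ
    have hgQ : π (gen g) ^ (Fintype.card F ^ h + 1) = 1 := by
      rw [pow_succ, ← hQh, ← hQτ, hτK, ← map_mul, adjHom_gen_mul, map_one]
    have h1 := hπL (gen g ^ (Fintype.card F ^ h + 1) - 1) (by rw [map_sub, map_pow, hgQ, map_one, sub_self])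
    rw [mul_one] at h1
    have hhL : h * L = n := by rw [mul_assoc] at hdL; omega
    have hh : 0 < h := by rcases Nat.eq_zero_or_pos h with rfl | h' <;> [simp at hhL; exact h'] ; omega
    refine Or.inr (Or.inl ⟨h, L, hL, hhL, congrArg Subtype.val h1, fun hL1 => ?_⟩)
    subst hL1
    rw [mul_one] at hhL hdz
    subst hhL
    set q := Fintype.card F
    obtain ⟨v, hv⟩ := (hq.pow (n := h)).add_one
    have hQz : z0 ^ (q ^ h - 1) = -1 := by
      refine mul_right_cancel₀ hz00 ?_
      rw [← pow_succ, Nat.sub_add_cancel (Nat.one_le_pow _ _ (by omega)), ← hQh, ← hQτ, hz0, hτK, hτz,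
        map_neg, neg_one_mul]
    obtain ⟨r, hr⟩ : Even (q - 1) := Nat.Odd.sub_odd hq odd_one
    have hE : geomExp q (2 * h) * r = (q ^ h - 1) * v := by
      have h5 : geomExp q (2 * h) * (q - 1) = (q ^ h - 1) * (q ^ h + 1) := by
        have h6 := geom_sum_mul_add (q - 1) (2 * h)
        rw [Nat.sub_add_cancel (by omega : 1 ≤ q)] at h6
        have h7 := Nat.sq_sub_sq (q ^ h) 1
        rw [one_pow, ← pow_mul, mul_comm h 2] at h7
        rw [mul_comm (q ^ h - 1), ← h7, geomExp]
        omega
      rw [hr, hv, ← two_mul, ← two_mul] at h5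
      nlinarith [h5]
    have hv2 : Even v := by
      by_contra hvo
      have h5 := congrArg (fun x : K => x ^ r) hdz
      simp only [hKq] at h5
      rw [hc, ← pow_mul, hE, pow_mul, hQz, (Nat.not_even_iff_odd.1 hvo).neg_one_pow, ← map_pow, ← sq, ← pow_mul,
        show 2 * r = q - 1 by omega, FiniteField.pow_card_sub_one_eq_one c hc0, map_one] at h5
      refine h20 ((algebraMap F K).injective ?_)
      rw [map_ofNat, map_zero]
      linear_combination h5
    obtain ⟨v', rfl⟩ := hv2
    exact ⟨v', by omega⟩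
  · obtain ⟨K, iK, fK, aK, π, d, L, hL, hK, hdL, hπe, -, hπ0, hπL, hdet⟩ := corner e he
    haveI := Fintype.ofFinite K
    have hτe : τ e = 1 - e := by linear_combination he2
    have hei : τ e * τ e = τ e := by rw [← map_mul, he.idem]
    have h2n : 2 * (d * L) = 2 * n := by
      have h1 := finrank_range_adj hΦ (adjHom_spec hΦ hg e)
        (congrArg Subtype.val he.idem) (congrArg Subtype.val hei)
      have h2' : LinearMap.ker (e : Module.End F V) =
          LinearMap.range ((τ e : GA g) : Module.End F V) := by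
        rw [hτe]
        show _ = LinearMap.range ((1 : Module.End F V) - (e : Module.End F V))
        exact LinearMap.IsIdempotentElem.ker_eq_range (congrArg Subtype.val he.idem)
      have h3 := (e : Module.End F V).finrank_range_add_finrank_ker
      rw [h2', ← h1, ← hdL, ← two_mul, hdim] at h3
      exact h3
    have hhL : d * L = n := by omega
    have hd : 0 < d := by rcases Nat.eq_zero_or_pos d with rfl | h' <;> [simp at hhL; exact h'] ; omega
    have hy0 : π (gen g) ≠ 0 := fun e => by
      have h1 := congrArg π (adjHom_gen_mul hΦ hg)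
      rw [map_mul, e, mul_zero, map_one] at h1
      exact zero_ne_one h1
    have hyq : π (gen g) ^ (Fintype.card F ^ d - 1) = 1 := by
      rw [← hKq, ← hK, Nat.card_eq_fintype_card]
      exact FiniteField.pow_card_sub_one_eq_one _ hy0
    have h1 : (gen g ^ (Fintype.card F ^ d - 1) - 1) ^ L = 0 := by
      have hXe := hπL (gen g ^ (Fintype.card F ^ d - 1) - 1) (by rw [map_sub, map_pow, hyq, map_one, sub_self])
      set X := gen g ^ (Fintype.card F ^ d - 1) - 1 with hX
      have hτX : (τ X * τ e) ^ L = 0 := by rw [← map_mul, ← map_pow, hXe, map_zero]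
      have hga' : gen g ^ (Fintype.card F ^ d - 1) * τ (gen g) ^ (Fintype.card F ^ d - 1) = 1 := by
        rw [← mul_pow, mul_comm, adjHom_gen_mul, one_pow]
      have hXe' : (X * τ e) ^ L = 0 := by
        rw [show X * τ e = -(gen g ^ (Fintype.card F ^ d - 1)) * (τ X * τ e) by
          rw [hX, map_sub, map_pow, map_one]
          linear_combination τ e * hga', mul_pow, hτX, mul_zero]
      obtain ⟨t, rfl⟩ := Nat.exists_eq_add_of_le hL
      rw [mul_pow, show 1 + t = t + 1 from add_comm _ _, IsIdempotentElem.pow_succ_eq t he.idem] at hXe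
      rw [mul_pow, show 1 + t = t + 1 from add_comm _ _, IsIdempotentElem.pow_succ_eq t hei] at hXe'
      rw [show 1 + t = t + 1 from add_comm _ _]
      linear_combination hXe + hXe' - X ^ (t + 1) * he2
    refine Or.inr (Or.inr ⟨d, L, hL, hhL, congrArg Subtype.val h1, fun hL1 => ?_⟩)
    subst hL1
    rw [mul_one] at hhL
    subst hhL
    set q := Fintype.card F
    set E := geomExp q d
    set u : GA g := z * e + (1 - e) with hu
    have hdec : z = u * τ u * (e - τ e) := by
      rw [hu, map_add, map_mul, hτz, map_sub, map_one, hτe]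
      linear_combination -(2 * (z ^ 2 - 1) * e + (-z ^ 2 + 4 * z + 1)) * he.idem
    have hs : algebraMap F K (LinearMap.det ((e - τ e : GA g) : Module.End F V)) =
        (-1) ^ E := by
      have h5 := hdet (-1)
      rw [map_neg, map_one, hKq, mul_one] at h5
      rw [show e - τ e = algebraMap F (GA g) (-1) * ((-1) * e + (1 - e)) by
        rw [map_neg, map_one, hτe]; ring, Subalgebra.coe_mul, map_mul, map_mul, h5]
      show algebraMap F K (LinearMap.det (algebraMap F (Module.End F V) (-1))) * _ = _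
      rw [show algebraMap F (Module.End F V) (-1) = (-1 : F) • LinearMap.id from rfl,
        LinearMap.det_smul, LinearMap.det_id, mul_one, hdim, (even_two_mul _).neg_one_pow, map_one, one_mul]
    have hdu : LinearMap.det ((τ u : GA g) : Module.End F V) =
        LinearMap.det ((u : GA g) : Module.End F V) :=
      ((det_adj hΦ (adjHom_spec hΦ hg u)).trans (hσ _)).symm
    have hdet' : algebraMap F K (c * c) = algebraMap F K
        (LinearMap.det ((u : GA g) : Module.End F V)) ^ 2 * (-1) ^ E := by
      rw [← hc, ← hs, hdec, Subalgebra.coe_mul, Subalgebra.coe_mul, map_mul, map_mul, map_mul, map_mul, hdu, sq]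
    set δ := LinearMap.det ((u : GA g) : Module.End F V)
    have hsqE : IsSquare ((-1 : F) ^ E) := by
      have h5 : c * c = δ ^ 2 * (-1) ^ E := (algebraMap F K).injective (by
        rw [hdet', map_mul, map_pow, map_pow, map_neg, map_one])
      have hδ : δ ≠ 0 := fun h => mul_ne_zero hc0 hc0 (by rw [h5, h]; ring)
      exact ⟨c / δ, by field_simp; linear_combination -h5⟩
    have h4 : 4 ∣ q ^ d - 1 := by
      have h6 := geom_sum_mul_add (q - 1) d
      rw [Nat.sub_add_cancel (by omega : 1 ≤ q)] at h6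
      have h7 : q ^ d - 1 = E * (q - 1) := by show _ = geomExp q d * _; rw [geomExp]; omega
      rw [h7]
      obtain ⟨r, hr⟩ : Even (q - 1) := Nat.Odd.sub_odd hq odd_one
      rcases Nat.even_or_odd E with ⟨s, hs'⟩ | hE
      · exact ⟨s * r, by rw [hr, hs']; ring⟩
      · rw [hE.neg_one_pow, FiniteField.isSquare_neg_one_iff] at hsqE
        have : 4 ∣ q - 1 := by obtain ⟨s, hs'⟩ := hq; omega
        exact this.mul_left E
    exact h4

theorem real_of_square (h2 : (1 : F) ≠ -1) (hp : p ≠ 2) (hn : 1 ≤ n) (A : Sp n) (hA : Odd (orderOf A))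
    (hd0 : LinearMap.det (Matrix.toLinAlgEquiv' A.1 - Matrix.toLinAlgEquiv' A.1 ^ (orderOf A - 1) :
      Module.End F (Fin n ⊕ Fin n → F)) ≠ 0)
    (hsq : IsSquare (LinearMap.det (Matrix.toLinAlgEquiv' A.1 - Matrix.toLinAlgEquiv' A.1 ^ (orderOf A - 1) :
      Module.End F (Fin n ⊕ Fin n → F)))) :
    ∃ y : Cfsg.PSp n F, Nat.lcm (orderOf A) 2 ∣ orderOf y := by
  classical
  set a := orderOf A with ha
  let T := (Matrix.toLinAlgEquiv' : Matrix (Fin n ⊕ Fin n) (Fin n ⊕ Fin n) F ≃ₐ[F] _)
  set g : Module.End F (Fin n ⊕ Fin n → F) := Matrix.toLinAlgEquiv' A.1 with hgdef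
  have hg : ∀ u v, (sForm F (Fin n)).h (g u) (g v) = (sForm F (Fin n)).h u v := fun u v =>
    CfsgLib.Symp.mem_iff_form.1 A.2 u v
  have hgo : orderOf g = a :=
    orderOf_injective (T.toMonoidHom.comp (Matrix.symplecticGroup (Fin n) F).subtype)
      (T.injective.comp Subtype.val_injective) A
  haveI : Nonempty (Fin n ⊕ Fin n) := ⟨Sum.inl ⟨0, hn⟩⟩
  have hp1 : 1 < p := (Fact.out : p.Prime).one_lt
  have hq : Odd (Fintype.card F) := by
    obtain ⟨f, -, hf⟩ := FiniteField.card F p
    exact hf ▸ ((Fact.out : p.Prime).odd_of_ne_two hp).pow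
  have h20 : (2 : F) ≠ 0 := fun h => h2 (by linear_combination h)
  have hdim : finrank F (Fin n ⊕ Fin n → F) = 2 * n := by
    rw [Module.finrank_fintype_fun_eq_card, Fintype.card_sum, Fintype.card_fin, two_mul]
  rcases square_cases (Φ := sForm F (Fin n)) sForm_nondeg hg (fun c => rfl) h20 hq hdim hA.pos
      (hgo ▸ pow_orderOf_eq_one g) hd0 hsq with
    ⟨e, he, he0, he1, hce, hee⟩ | ⟨h, L, hL, hhL, h1, h4⟩ | ⟨d, L, hL, hhL, h1, h4⟩
  · exact real_of_idem h2 A hA he he0 he1 hce hee
  · have hh : 0 < h := by rcases Nat.eq_zero_or_pos h with rfl | h' <;> [simp at hhL; exact h'] ; omega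
    have h3 := orderOf_dvd_of_pow_eq_one (dvd_of_nilpotent (p := p) (Nat.le_pow_clog hp1 L) h1)
    rw [hgo] at h3
    obtain ⟨w, hw⟩ := CfsgLib.OrderBC.exists_singer_symp F h20 hh
    rcases Nat.lt_or_ge L 2 with hL1 | hL2
    · obtain rfl : L = 1 := by omega
      rw [mul_one] at hhL
      subst hhL
      rw [Nat.clog_one_right, pow_zero, mul_one] at h3
      refine ⟨QuotientGroup.mk w, ?_⟩
      have hw2 := dvd_two_mul_orderOf_mk w
      rw [hw] at hw2
      refine Nat.lcm_dvd (odd_dvd_of_dvd_two_mul hA (h3.trans hw2)) ?_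
      have := (h4 rfl).trans hw2
      omega
    · refine exists_real h2 hL2 hhL hn hA w hw (fun hd' => ?_) h3 hp
      exact (Fact.out : p.Prime).not_dvd_one ((Nat.dvd_add_right (dvd_card_pow (F := F) (p := p) hh)).1 hd')
  · have hd : 0 < d := by rcases Nat.eq_zero_or_pos d with rfl | h' <;> [simp at hhL; exact h'] ; omega
    have h3 := orderOf_dvd_of_pow_eq_one (dvd_of_nilpotent (p := p) (Nat.le_pow_clog hp1 L) h1)
    rw [hgo] at h3
    obtain ⟨w, hw⟩ := exists_sp_plus (F := F) hd
    rcases Nat.lt_or_ge L 2 with hL1 | hL2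
    · obtain rfl : L = 1 := by omega
      rw [mul_one] at hhL
      subst hhL
      rw [Nat.clog_one_right, pow_zero, mul_one] at h3
      refine ⟨QuotientGroup.mk w, ?_⟩
      have hw2 := dvd_two_mul_orderOf_mk w
      rw [hw] at hw2
      refine Nat.lcm_dvd (odd_dvd_of_dvd_two_mul hA (h3.trans hw2)) ?_
      have := (h4 rfl).trans hw2
      omega
    · refine exists_real h2 hL2 hhL hn hA w hw (fun hd' => ?_) h3 hp
      have := Nat.dvd_sub (dvd_card_pow (F := F) (p := p) hd) hd'
      rw [Nat.sub_sub_self (Nat.one_le_pow _ _ Fintype.card_pos)] at this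
      exact (Fact.out : p.Prime).not_dvd_one this

end CfsgLib.SpecAbsorb
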