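import Cfsg.Agent.SpecAbsorb.SU

/-!
The element orders of `PSU_3(q)` for odd `q`.
-/

set_option autoImplicit false
set_option linter.style.haveILetI false
set_option maxHeartbeats 400000

namespace CfsgLib.SpecAbsorb

open Matrix Module CfsgLib.Forms CfsgLib.SpectrumPSL

/-- The restriction of a reflexive form to a subspace. -/
def restrictR {F V : Type*} [Field F] [AddCommGroup V] [Module F V] (Φ : RForm F V) (W : Submodule F V) :
    RForm F W where
  h u v := Φ.h u v
  σ := Φ.σ
  ε := Φ.ε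
  σσ := Φ.σσ
  εσε := Φ.εσε
  add_left u v w := Φ.add_left u v w
  smul_left c u v := Φ.smul_left c u v
  swap u v := Φ.swap u v
  trace_valued v := Φ.trace_valued v

theorem eigen_of_line {F V : Type*} [Field F] [AddCommGroup V] [Module F V] {e g : Module.End F V}
    (he : e * e = e) (hc : Commute g e) (h1 : finrank F (LinearMap.range e) = 1) :
    ∃ (v : V) (c : F), v ≠ 0 ∧ e v = v ∧ g v = c • v ∧ ∀ w, ∃ a : F, e w = a • v := by
  obtain ⟨⟨v, hv⟩, hv0, hspan⟩ := finrank_eq_one_iff'.1 h1
  have hev : e v = v := by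
    obtain ⟨w, rfl⟩ := hv
    exact LinearMap.congr_fun he w
  have hgv : g v ∈ LinearMap.range e := ⟨g v, by
    rw [← Module.End.mul_apply, ← hc.eq, Module.End.mul_apply, hev]⟩
  obtain ⟨c, hc'⟩ := hspan ⟨g v, hgv⟩
  refine ⟨v, c, fun h => hv0 (Subtype.ext h), hev, (congrArg Subtype.val hc').symm, fun w => ?_⟩
  obtain ⟨a, ha⟩ := hspan ⟨e w, w, rfl⟩
  exact ⟨a, (congrArg Subtype.val ha).symm⟩

theorem restrict_nondeg {F V : Type*} [Field F] [AddCommGroup V] [Module F V] {Φ : RForm F V} (hΦ : Φ.Nondeg)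
    {e : Module.End F V} (he : e * e = e) (hee : IsAdj Φ e e) :
    (restrictR Φ (LinearMap.range e)).Nondeg := by
  rintro ⟨_, w, rfl⟩ h
  refine Subtype.ext (hΦ _ fun u => ?_)
  have h1 : e (e w) = e w := LinearMap.congr_fun he w
  show Φ.h u (e w) = 0
  rw [← h1, ← hee u (e w)]
  exact h ⟨e u, u, rfl⟩

/-- An eigenvalue on an anisotropic line of an isometry has norm one. -/
theorem eigen_norm {F V : Type*} [Field F] [AddCommGroup V] [Module F V] {Φ : RForm F V} (hΦ : Φ.Nondeg)
    {e g : Module.End F V} (hee : IsAdj Φ e e) (hg : ∀ u v, Φ.h (g u) (g v) = Φ.h u v) {v : V} {c : F}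
    (hv : v ≠ 0) (hev : e v = v) (hgv : g v = c • v) (hspan : ∀ w, ∃ a : F, e w = a • v) : c * Φ.σ c = 1 := by
  have h0 : Φ.h v v ≠ 0 := fun h => hv (hΦ v fun u => by
    obtain ⟨a, ha⟩ := hspan u
    rw [← hev, ← hee u v, ha, Φ.smul_left, h, mul_zero])
  have h1 := hg v v
  rw [hgv, Φ.smul_left, Φ.smul_right, ← mul_assoc] at h1
  exact mul_right_cancel₀ h0 (by rw [h1, one_mul])

theorem suTor_three {q : ℕ} (hq : 2 ≤ q) : suTor q 3 = q ^ 2 - q + 1 := by
  rw [suTor, if_pos (by decide)]
  obtain ⟨k, rfl⟩ := Nat.exists_eq_add_of_le hq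
  have h : (2 + k) ^ 2 - (2 + k) = (2 + k) * (1 + k) := by
    rw [show (2 + k) ^ 2 = (2 + k) * (1 + k) + (2 + k) by ring, Nat.add_sub_cancel]
  rw [h, show (2 + k) ^ 3 + 1 = ((2 + k) * (1 + k) + 1) * (3 + k) by ring,
    show geo ((2 + k) ^ 2) 3 = ((2 + k) * (1 + k) + 1) * (1 + (2 + k) * (3 + k)) by
      simp [geo, Finset.sum_range_succ]; ring,
    Nat.gcd_mul_left, Nat.gcd_add_mul_right_right, Nat.gcd_one_right, mul_one]

theorem psuTor_three {q : ℕ} (hq : 2 ≤ q) : psuTor q 3 = (q ^ 2 - q + 1) / Nat.gcd 3 (q + 1) := by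
  rw [psuTor, suTor_three hq]
  obtain ⟨k, rfl⟩ := Nat.exists_eq_add_of_le hq
  rw [show (2 + k) ^ 2 - (2 + k) + 1 = 3 + k * (2 + k + 1) by
    rw [show (2 + k) ^ 2 = (2 + k) * (1 + k) + (2 + k) by ring, Nat.add_sub_cancel]; ring,
    Nat.gcd_add_mul_right_left]

variable {F : Type*} [Field F] [Fintype F] {p : ℕ} [Fact p.Prime] [CharP F p] {q : ℕ}

theorem su3_bound (hp : p ≠ 2) (hF : Fintype.card F = q ^ 2) (x : Cfsg.PSU 3 F q) :
    orderOf x ∣ q + 1 ∨ orderOf x ∣ p * (q + 1) / Nat.gcd 3 (q + 1) ∨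
      orderOf x ∣ (q ^ 2 - 1) / Nat.gcd 3 (q + 1) ∨ orderOf x ∣ (q ^ 2 - q + 1) / Nat.gcd 3 (q + 1) := by
  classical
  have hF' : Nat.card F = q ^ 2 := by rw [Nat.card_eq_fintype_card, hF]
  have hq := two_le_q hF'
  have hp3 : 3 ≤ p := by have := (Fact.out : p.Prime).two_le; omega
  set d := Nat.gcd 3 (q + 1)
  have hd : d ∣ q + 1 := Nat.gcd_dvd_right _ _
  obtain ⟨A, rfl⟩ := QuotientGroup.mk_surjective x
  let T := (Matrix.toLinAlgEquiv' : Matrix (Fin 3) (Fin 3) F ≃ₐ[F] Module.End F (Fin 3 → F))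
  set Φ := CfsgLib.Unitary.uForm hF' 3
  set g : Module.End F (Fin 3 → F) := T (A.1 : Matrix (Fin 3) (Fin 3) F) with hgdef
  have hg : ∀ u v, Φ.h (g u) (g v) = Φ.h u v := fun u v => A.2 u v
  have hdetg : LinearMap.det g = 1 :=
    (LinearMap.det_toLin' (A.1 : Matrix (Fin 3) (Fin 3) F)).trans A.1.2
  have hdim : finrank F (Fin 3 → F) = 3 := Module.finrank_fin_fun F
  have hσ : ∀ c : F, Φ.σ c = c ^ q := fun c => rfl
  have fin : ∀ (i : ℕ) (c : F), g ^ i = algebraMap F _ c → orderOf (QuotientGroup.mk A : Cfsg.PSU 3 F q) ∣ i := by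
    intro i c h
    refine orderOf_dvd_of_pow_eq_one ?_
    rw [← QuotientGroup.mk_pow, QuotientGroup.eq_one_iff, CfsgLib.Unitary.mem_center_SU_iff hF' (by norm_num)]
    refine ⟨c, T.injective ?_⟩
    rw [SubmonoidClass.coe_pow, Matrix.SpecialLinearGroup.coe_pow, map_pow, ← hgdef, h, map_smul, map_one,
      Algebra.algebraMap_eq_smul_one]
  have hsurj : ∀ {K : Type _} [Field K] [Finite K] [Algebra F K], Nat.card K = Nat.card F →
      ∀ y : K, ∃ c : F, algebraMap F K c = y := by
    intro K _ _ _ hK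
    exact ((algebraMap F K).injective.bijective_of_nat_card_le hK.le).2
  rcases cases (CfsgLib.Unitary.uForm_nondeg hF' 3) hg with ⟨e, he, he0, he1, hce, hee⟩ |
      ⟨K, _, _, _, δ, L, τ, y, hL, hKc, hdL, hττ, hτF, hτy, hdy, hnil⟩ |
      ⟨K, _, _, _, δ, L, y, z, hL, hKc, hdL, -, -, -, -⟩
  · -- choose the idempotent with a line as range
    obtain ⟨e, he, hce, hee, h1⟩ : ∃ e : Module.End F (Fin 3 → F), e * e = e ∧ Commute g e ∧ IsAdj Φ e e ∧
        finrank F (LinearMap.range e) = 1 := by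
      have h0 : 0 < finrank F (LinearMap.range e) := by
        rw [Nat.pos_iff_ne_zero]
        exact fun h => he0 (LinearMap.range_eq_bot.1 (Submodule.finrank_eq_zero.1 h))
      have hk : 0 < finrank F (LinearMap.ker e) := by
        rw [Nat.pos_iff_ne_zero]
        intro h
        have hk := LinearMap.ker_eq_bot.1 (Submodule.finrank_eq_zero.1 h)
        exact he1 (LinearMap.ext fun v => hk (LinearMap.congr_fun he v))
      have hsum := e.finrank_range_add_finrank_ker
      rw [hdim] at hsum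
      rcases Nat.lt_or_ge (finrank F (LinearMap.range e)) 2 with h | h
      · exact ⟨e, he, hce, hee, by omega⟩
      · refine ⟨1 - e, by rw [sub_mul, mul_sub, mul_sub, he, one_mul, mul_one, one_mul]; abel,
          (Commute.one_right g).sub_right hce, fun u v => ?_, ?_⟩
        · simp only [LinearMap.sub_apply, Module.End.one_apply, RForm.sub_left, RForm.sub_right]
          rw [hee u v]
        · have : LinearMap.range (1 - e) = LinearMap.ker e := by
            ext v
            refine ⟨?_, fun hv => ⟨v, by simp [LinearMap.mem_ker.1 hv]⟩⟩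
            rintro ⟨w, rfl⟩
            rw [LinearMap.mem_ker, LinearMap.sub_apply, Module.End.one_apply, map_sub]
            exact sub_eq_zero.2 (LinearMap.congr_fun he w).symm
          rw [this]
          omega
    obtain ⟨v, c, hv, hev, hgv, hspan⟩ := eigen_of_line he hce h1
    have hc := eigen_norm (CfsgLib.Unitary.uForm_nondeg hF' 3) hee hg hv hev hgv hspan
    rw [hσ, ← pow_succ'] at hc
    set e' : Module.End F (Fin 3 → F) := 1 - e
    have he' : e' * e' = e' := by simp only [e', sub_mul, mul_sub, he, one_mul, mul_one]; abel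
    have hee' : IsAdj Φ e' e' := fun u w => by
      simp only [e', LinearMap.sub_apply, Module.End.one_apply, RForm.sub_left, RForm.sub_right]
      rw [hee u w]
    set W := LinearMap.range e'
    have hWker : W = LinearMap.ker e := by
      ext u
      refine ⟨?_, fun hu => ⟨u, by simp [e', LinearMap.mem_ker.1 hu]⟩⟩
      rintro ⟨w, rfl⟩
      rw [LinearMap.mem_ker, LinearMap.sub_apply, Module.End.one_apply, map_sub]
      exact sub_eq_zero.2 (LinearMap.congr_fun he w).symm
    have hW2 : finrank F W = 2 := by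
      have hsum := e.finrank_range_add_finrank_ker
      rw [hdim] at hsum
      rw [hWker]; omega
    have hmaps : ∀ w ∈ W, g w ∈ W := by
      intro w hw
      rw [hWker, LinearMap.mem_ker] at hw ⊢
      rw [← Module.End.mul_apply, ← hce.eq, Module.End.mul_apply, hw, map_zero]
    set g' : Module.End F W := g.restrict hmaps
    have hg' : ∀ u w, (restrictR Φ W).h (g' u) (g' w) = (restrictR Φ W).h u w := fun u w => hg u w
    have hdet : c * LinearMap.det g' = 1 := by
      have hcompl : IsCompl W (LinearMap.range e) := by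
        refine ⟨Submodule.disjoint_def.2 fun w hw hw' => ?_, codisjoint_iff.2 (eq_top_iff.2 fun u _ =>
          Submodule.mem_sup.2 ⟨e' u, ⟨u, rfl⟩, e u, ⟨u, rfl⟩, by simp [e']⟩)⟩
        obtain ⟨u, rfl⟩ := hw'
        rw [hWker, LinearMap.mem_ker, ← Module.End.mul_apply, he] at hw
        exact hw
      let eqv := Submodule.prodEquivOfIsCompl _ _ hcompl
      have hconj : (eqv : (W × LinearMap.range e) →ₗ[F] _) ∘ₗ g'.prodMap (c • LinearMap.id) ∘ₗ
          (eqv.symm : _ →ₗ[F] W × LinearMap.range e) = g := by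
        refine LinearMap.ext fun u => ?_
        obtain ⟨⟨w, ⟨_, t, rfl⟩⟩, rfl⟩ := eqv.surjective u
        simp only [LinearMap.comp_apply, LinearEquiv.coe_coe, LinearEquiv.symm_apply_apply]
        show g (w : Fin 3 → F) + c • e t = g ((w : Fin 3 → F) + e t)
        obtain ⟨a, ha⟩ := hspan t
        rw [map_add, ha, map_smul, hgv, smul_comm]
      rw [← hdetg, ← hconj, LinearMap.det_conj, LinearMap.det_prodMap, LinearMap.det_smul, h1, LinearMap.det_id,
        pow_one, mul_one, mul_comm]
    -- scalar powers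
    have fin2 : ∀ i : ℕ, (g' ^ i = algebraMap F _ (c ^ i)) →
        orderOf (QuotientGroup.mk A : Cfsg.PSU 3 F q) ∣ i := by
      intro i h
      refine fin i (c ^ i) (LinearMap.ext fun u => ?_)
      have hgi : ∀ j : ℕ, (g ^ j) v = c ^ j • v := fun j => by
        induction j with
        | zero => simp
        | succ j ih => rw [pow_succ', Module.End.mul_apply, ih, map_smul, hgv, smul_smul, pow_succ]
      have hw : e' u ∈ W := ⟨u, rfl⟩
      have h2 := congrArg Subtype.val (LinearMap.congr_fun h ⟨e' u, hw⟩)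
      rw [Module.algebraMap_end_apply, SetLike.val_smul, Module.End.pow_restrict] at h2
      obtain ⟨a, ha⟩ := hspan u
      have hu : u = e' u + a • v := by rw [← ha]; simp [e']
      rw [hu, Module.algebraMap_end_apply, map_add, map_smul, hgi, smul_add, smul_comm a]
      exact congrArg (· + _) h2
    haveI : Nontrivial W := Module.nontrivial_of_finrank_eq_succ hW2
    rcases cases (restrict_nondeg (CfsgLib.Unitary.uForm_nondeg hF' 3) he' hee') hg' with
        ⟨f, hf, hf0, hf1, hcf, hff⟩ | ⟨K, _, _, _, δ, L, τ, y, hL, hKc, hdL, hττ, hτF, hτy, hdy, hnil⟩ |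
        ⟨K, _, _, _, δ, L, y, z, hL, hKc, hdL, hy0, hdy, hz, hnil⟩
    · left
      refine fin2 _ ?_
      rw [hc, map_one]
      have hsum := f.finrank_range_add_finrank_ker
      rw [hW2] at hsum
      have hf' : (1 - f) * (1 - f) = 1 - f := LinearMap.ext fun w => by
        have h := LinearMap.congr_fun hf w
        rw [Module.End.mul_apply] at h
        simp only [Module.End.mul_apply, LinearMap.sub_apply, Module.End.one_apply, map_sub, h, sub_self, sub_zero]
      have hr : ∀ {f : Module.End F W}, f * f = f → f ≠ 0 → 0 < finrank F (LinearMap.range f) := fun {f} _ h0 => by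
        rw [Nat.pos_iff_ne_zero]
        exact fun h => h0 (LinearMap.range_eq_bot.1 (Submodule.finrank_eq_zero.1 h))
      have hker : LinearMap.ker f = LinearMap.range (1 - f) := by
        ext u
        refine ⟨fun hu => ⟨u, by simp [LinearMap.mem_ker.1 hu]⟩, ?_⟩
        rintro ⟨w, rfl⟩
        rw [LinearMap.mem_ker, LinearMap.sub_apply, Module.End.one_apply, map_sub]
        exact sub_eq_zero.2 (LinearMap.congr_fun hf w).symm
      have hr1 := hr hf hf0
      have hr2 := hr hf' (fun h => hf1 (sub_eq_zero.1 h).symm)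
      rw [hker] at hsum
      have aux : ∀ a b : ℕ, 0 < a → 0 < b → a + b = 2 → a = 1 ∧ b = 1 := by omega
      have hone := aux _ _ hr1 hr2 hsum
      have key : ∀ {f : Module.End F W}, f * f = f → Commute g' f → IsAdj (restrictR Φ W) f f →
          finrank F (LinearMap.range f) = 1 → ∀ w, (g' ^ (q + 1)) (f w) = f w := by
        intro f hf hcf hff h1 w
        obtain ⟨u, b, hu, hfu, hgu, hsp⟩ := eigen_of_line hf hcf h1
        have hb := eigen_norm (restrict_nondeg (CfsgLib.Unitary.uForm_nondeg hF' 3) he' hee') hff hg' hu hfu hgu hsp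
        rw [show (restrictR Φ W).σ b = b ^ q from rfl, ← pow_succ'] at hb
        have hgi : ∀ j : ℕ, (g' ^ j) u = b ^ j • u := fun j => by
          induction j with
          | zero => simp
          | succ j ih => rw [pow_succ', Module.End.mul_apply, ih, map_smul, hgu, smul_smul, pow_succ]
        obtain ⟨a, ha⟩ := hsp w
        rw [ha, map_smul, hgi, hb, one_smul]
      refine LinearMap.ext fun w => ?_
      have h1 := key hf hcf hff hone.1 w
      have h2 := key hf' (Commute.sub_right (R := Module.End F W) (Commute.one_right g') hcf) (fun u t => by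
        simp only [LinearMap.sub_apply, Module.End.one_apply, RForm.sub_left, RForm.sub_right]
        rw [hff u t]) hone.2 w
      rw [LinearMap.sub_apply, Module.End.one_apply, map_sub, h1, sub_left_inj] at h2
      rw [h2, Module.End.one_apply]
    · right; left
      have hid : τ ≠ RingHom.id K := fun h => frobQ_ne_id hF' (RingHom.ext fun b =>
        (algebraMap F K).injective (by
          show algebraMap F K ((restrictR Φ W).σ b) = _
          rw [← hτF, h]; rfl))
      obtain ⟨Q, hQ, hQτ⟩ := (involution_eq_pow τ hττ).resolve_left hid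
      rw [hW2] at hdL
      have hδ : δ = 1 ∧ L = 2 := by
        have hdd : δ ∣ 2 := ⟨L, hdL.symm⟩
        rcases (Nat.dvd_prime Nat.prime_two).1 hdd with rfl | rfl
        · exact ⟨rfl, by omega⟩
        · exfalso
          rw [hKc, hF', ← pow_mul, mul_comm 2, pow_mul] at hQ
          obtain rfl : Q = q ^ 2 := Nat.pow_left_injective two_ne_zero hQ
          refine frobQ_ne_id hF' (RingHom.ext fun b => (algebraMap F K).injective ?_)
          show algebraMap F K ((restrictR Φ W).σ b) = _
          rw [← hτF, hQτ, ← map_pow, ← hF, FiniteField.pow_card]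
          rfl
      obtain ⟨rfl, rfl⟩ := hδ
      rw [pow_one] at hKc
      obtain ⟨μ, rfl⟩ := hsurj hKc y
      rw [hτF, ← map_mul] at hτy
      have hμ : μ ^ (q + 1) = 1 := by
        rw [pow_succ]
        exact (algebraMap F K).injective (hτy.trans (map_one _).symm)
      rw [← map_pow] at hdy
      have hdy' := (algebraMap F K).injective hdy
      rw [show geomExp (Nat.card F) 1 * 2 = 2 by simp [geomExp]] at hdy'
      haveI : CharP (Module.End F W) p :=
        charP_of_injective_algebraMap (FaithfulSMul.algebraMap_injective F _) p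
      have hgp : g' ^ p = algebraMap F _ (μ ^ p) := by
        have h := pow_eq_zero_of_le (show 2 ≤ p by omega) (hnil 1 μ (pow_one _))
        rw [pow_one] at h
        refine ((sub_eq_zero (G := Module.End F W)).1 ?_).trans (map_pow _ _ _).symm
        exact (sub_pow_char_of_commute (R := Module.End F W) p (Algebra.commute_algebraMap_right μ _)).symm.trans h
      refine fin2 _ ?_
      obtain ⟨u, hu⟩ := hd
      have hi : p * (q + 1) / d = p * u := by
        rw [hu, mul_left_comm, Nat.mul_div_cancel_left _ (Nat.gcd_pos_of_pos_left _ (by norm_num))]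
      rw [hi, pow_mul, hgp, ← map_pow, ← pow_mul]
      congr 1
      have h3 : μ ^ (3 * (p * u)) = 1 := by
        obtain ⟨w, hw⟩ : d ∣ 3 := Nat.gcd_dvd_left _ _
        rw [hw, show d * w * (p * u) = (q + 1) * (w * p) by rw [hu]; ring, pow_mul, hμ, one_pow]
      rw [hdy'] at hdet
      refine mul_right_cancel₀ (b := (μ ^ 2) ^ (p * u)) ?_ ?_
      · exact pow_ne_zero _ (pow_ne_zero _ fun h => by rw [h, zero_pow (by omega)] at hμ; exact zero_ne_one hμ)
      · rw [← mul_pow c (μ ^ 2), hdet, one_pow, ← pow_mul, ← pow_add, ← h3]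
        ring_nf
    · right; right; left
      rw [hW2] at hdL
      have hδL : δ * L = 1 := by omega
      obtain ⟨rfl, rfl⟩ := mul_eq_one.1 hδL
      rw [pow_one] at hKc
      obtain ⟨μ, rfl⟩ := hsurj hKc y
      rw [← map_pow, show geomExp (Nat.card F) 1 * 1 = 1 by simp [geomExp], pow_one] at hdy
      obtain rfl := (algebraMap F K).injective hdy
      rw [show (restrictR Φ W).σ z = z ^ q from rfl] at hz
      have hμ0 : z ≠ 0 := fun h => hy0 (by rw [h, map_zero])
      have hcz : c * z = z ^ q := by linear_combination (-c) * hz + z ^ q * hdet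
      obtain ⟨u, hu⟩ : d ∣ q ^ 2 - 1 := hd.trans ⟨q - 1, by simpa using Nat.sq_sub_sq q 1⟩
      have hi : (q ^ 2 - 1) / d = u := by
        rw [hu, Nat.mul_div_cancel_left _ (Nat.gcd_pos_of_pos_left _ (by norm_num))]
      rw [hi]
      have h2 : z ^ ((q - 2) * u) = 1 := by
        obtain ⟨w, hw⟩ : d ∣ q - 2 := by
          have h3 : d ∣ 3 := Nat.gcd_dvd_left _ _
          have := Nat.dvd_sub hd h3
          rwa [show q + 1 - 3 = q - 2 by omega] at this
        rw [hw, show d * w * u = d * u * w by ring, ← hu, pow_mul, ← hF,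
          FiniteField.pow_card_sub_one_eq_one z hμ0, one_pow]
      have hzu : z ^ u = c ^ u := by
        refine mul_right_cancel₀ (pow_ne_zero u hμ0) ?_
        rw [← mul_pow c z, hcz, ← pow_mul, ← pow_add,
          show q * u = u + u + (q - 2) * u by
            obtain ⟨k, rfl⟩ := Nat.exists_eq_add_of_le hq
            rw [Nat.add_sub_cancel_left]; ring,
          pow_add _ (u + u), h2, mul_one]
      refine fin2 u ?_
      have h := hnil u (c ^ u) (by rw [← map_pow, hzu]) (by
        rw [show (restrictR Φ W).σ (c ^ u) = (c ^ u) ^ q from rfl, ← pow_succ', ← pow_mul, mul_comm, pow_mul, hc,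
          one_pow])
      rw [pow_one] at h
      exact (sub_eq_zero (G := Module.End F W)).1 h
  · have hid : τ ≠ RingHom.id K := fun h => frobQ_ne_id hF' (RingHom.ext fun b =>
      (algebraMap F K).injective (by
        show algebraMap F K (Φ.σ b) = _
        rw [← hτF, h]; rfl))
    obtain ⟨Q, hQ, hQτ⟩ := (involution_eq_pow τ hττ).resolve_left hid
    rw [hdim] at hdL
    obtain rfl : Q = q ^ δ := by
      rw [hKc, hF', ← pow_mul, mul_comm 2, pow_mul] at hQ
      exact Nat.pow_left_injective two_ne_zero hQ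
    rw [hdetg, map_one, hF'] at hdy
    rcases (Nat.dvd_prime Nat.prime_three).1 (⟨L, hdL.symm⟩ : δ ∣ 3) with rfl | rfl
    · -- unipotent up to a scalar
      right; left
      obtain rfl : L = 3 := by omega
      rw [pow_one] at hKc
      obtain ⟨μ, rfl⟩ := hsurj hKc y
      haveI : CharP (Module.End F (Fin 3 → F)) p :=
        charP_of_injective_algebraMap (FaithfulSMul.algebraMap_injective F _) p
      have h := pow_eq_zero_of_le hp3 (hnil 1 μ (pow_one _))
      rw [pow_one, sub_pow_char_of_commute p (Algebra.commute_algebraMap_right μ _), sub_eq_zero,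
        ← map_pow (algebraMap F (Module.End F (Fin 3 → F)))] at h
      refine (fin p _ h).trans ?_
      obtain ⟨u, hu⟩ := hd
      rw [hu, mul_left_comm, Nat.mul_div_cancel_left _ (Nat.gcd_pos_of_pos_left _ (by norm_num))]
      exact dvd_mul_right _ _
    · right; right; right
      obtain rfl : L = 1 := by omega
      rw [hQτ, ← pow_succ] at hτy
      have ho := dvd_suTor_field hF' (n := 3) (d := 3) (L := 1) (by decide) rfl hτy hdy.symm
      have h1 : (y ^ psuTor q 3) ^ (q + 1) = 1 := by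
        rw [← pow_mul]; exact orderOf_dvd_iff_pow_eq_one.1 (ho.trans (suTor_dvd q 3))
      obtain ⟨b, hb⟩ := mem_base_of_pow_card (F := F) (x := y ^ psuTor q 3) (by
        rw [hF, show q ^ 2 = (q + 1) * (q - 1) + 1 by
          have := Nat.sq_sub_sq q 1; rw [one_pow] at this; rw [← this]; have := Nat.one_le_pow 2 q (by omega); omega,
          pow_succ, pow_mul, h1, one_pow, one_mul])
      have h := hnil _ b hb.symm
      rw [pow_one, sub_eq_zero] at h
      rw [← psuTor_three hq]
      exact fin _ b h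
  · rw [hdim] at hdL; omega

theorem su3_witness (hF : Fintype.card F = q ^ 2) :
    (∃ x : Cfsg.PSU 3 F q, orderOf x = q + 1) ∧
    (∃ x : Cfsg.PSU 3 F q, orderOf x = p * (q + 1) / Nat.gcd 3 (q + 1)) ∧
    (∃ x : Cfsg.PSU 3 F q, orderOf x = (q ^ 2 - 1) / Nat.gcd 3 (q + 1)) ∧
    ∃ x : Cfsg.PSU 3 F q, orderOf x = (q ^ 2 - q + 1) / Nat.gcd 3 (q + 1) := by
  classical
  have hF' : Nat.card F = q ^ 2 := by rw [Nat.card_eq_fintype_card, hF]
  have hq := two_le_q hF'
  have hq21 : q ^ 2 - 1 = (q + 1) * (q - 1) := by simpa using Nat.sq_sub_sq q 1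
  set d := Nat.gcd 3 (q + 1)
  have hord : ∀ (A : Cfsg.SU 3 F q) (N : ℕ),
      (∀ i, (∃ c : F, ((A ^ i : Cfsg.SU 3 F q).1 : Matrix (Fin 3) (Fin 3) F) = c • 1) ↔ N ∣ i) →
      ∃ x : Cfsg.PSU 3 F q, orderOf x = N := by
    intro A N h
    refine ⟨QuotientGroup.mk A, ?_⟩
    have key : ∀ i : ℕ, (QuotientGroup.mk A : Cfsg.PSU 3 F q) ^ i = 1 ↔ N ∣ i := fun i => by
      rw [← QuotientGroup.mk_pow, QuotientGroup.eq_one_iff, CfsgLib.Unitary.mem_center_SU_iff hF' (by norm_num)]
      exact h i
    exact Nat.dvd_antisymm (orderOf_dvd_of_pow_eq_one ((key N).2 dvd_rfl)) ((key _).1 (pow_orderOf_eq_one _))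
  obtain ⟨g₀, hg₀⟩ := IsCyclic.exists_ofOrder_eq_natCard (α := Fˣ)
  rw [card_units_eq hF'] at hg₀
  obtain ⟨ζ, hζ⟩ := CfsgLib.Spectrum.exists_orderOf_eq_of_dvd (orderOf_pos g₀) (hg₀ ▸ dvd_mul_right (q + 1) (q - 1))
  set z : F := (ζ : F) with hzdef
  have hz0 : z ≠ 0 := ζ.ne_zero
  have hzo : ∀ i, z ^ i = 1 ↔ q + 1 ∣ i := fun i => by
    rw [← hζ, ← orderOf_units, orderOf_dvd_iff_pow_eq_one]
  have hz1 : z * frobQ hF' z = 1 := by rw [frobQ_apply, ← pow_succ']; exact (hzo _).2 dvd_rfl
  -- the model with an isotropic pair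
  let Φ := hermR hF' (fun u v : Fin 3 → F =>
      u 0 * frobQ hF' (v 2) + u 1 * frobQ hF' (v 1) + u 2 * frobQ hF' (v 0))
    (fun u v w => by simp only [Pi.add_apply]; ring) (fun c u v => by simp only [Pi.smul_apply, smul_eq_mul]; ring)
    (fun u v => by simp only [map_add, map_mul, frobQ_invol]; ring)
  have hΦ : Φ.Nondeg := fun v hv => by
    funext i
    fin_cases i <;> apply (frobQ hF').injective
    · simpa [Φ, hermR] using hv (Pi.single 2 1)
    · simpa [Φ, hermR] using hv (Pi.single 1 1)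
    · simpa [Φ, hermR] using hv (Pi.single 0 1)
  obtain ⟨θ, hθ⟩ := exists_model hF' Φ rfl rfl hΦ (W := Fin 3 → F) (n := 3) (Module.finrank_fin_fun F)
  let T := (Matrix.toLinAlgEquiv' : Matrix (Fin 3) (Fin 3) F ≃ₐ[F] Module.End F (Fin 3 → F))
  let M : F → F → F → F → Matrix (Fin 3) (Fin 3) F := fun α β γ c => !![α, 0, c; 0, β, 0; 0, 0, γ]
  have mk : ∀ α β γ c : F, α * frobQ hF' γ = 1 → β * frobQ hF' β = 1 → c * frobQ hF' γ + γ * frobQ hF' c = 0 →
      α * β * γ = 1 → ∀ N : ℕ,
      (∀ i, (∃ s : F, M α β γ c ^ i = s • 1) ↔ N ∣ i) → ∃ x : Cfsg.PSU 3 F q, orderOf x = N := by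
    intro α β γ c h1 h2 h3 h4 N hN
    have h1' : γ * frobQ hF' α = 1 := by
      have := congrArg (frobQ hF') h1
      rwa [map_mul, frobQ_invol, map_one, mul_comm] at this
    obtain ⟨A, hA⟩ := hθ (T (M α β γ c)) (fun u v => by
      show Φ.h (M α β γ c *ᵥ u) (M α β γ c *ᵥ v) = Φ.h u v
      simp only [Φ, hermR, M, Matrix.mulVec, dotProduct, Fin.sum_univ_three, Matrix.cons_val', Matrix.cons_val,
        Matrix.of_apply, map_add, map_mul, zero_mul, add_zero, zero_add]
      linear_combination (u 0 * frobQ hF' (v 2)) * h1 + (u 2 * frobQ hF' (v 0)) * h1' +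
        (u 1 * frobQ hF' (v 1)) * h2 + (u 2 * frobQ hF' (v 2)) * h3) (by
      rw [show LinearMap.det (T (M α β γ c)) = (M α β γ c).det from LinearMap.det_toLin' _, Matrix.det_fin_three]
      simp [M]
      exact h4)
    refine hord A N fun i => ?_
    rw [← hN i, SubmonoidClass.coe_pow, Matrix.SpecialLinearGroup.coe_pow, hA, ← map_pow, ← map_pow]
    refine exists_congr fun s => ?_
    conv_lhs => rw [show (s • 1 : Matrix (Fin 3) (Fin 3) F) = θ (T (algebraMap F _ s)) by
      rw [AlgEquiv.commutes, AlgEquiv.commutes, Algebra.algebraMap_eq_smul_one]]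
    rw [θ.injective.eq_iff, T.injective.eq_iff, Algebra.algebraMap_eq_smul_one]
  have hMpow : ∀ α β γ : F, ∀ i : ℕ, M α β γ 0 ^ i = M (α ^ i) (β ^ i) (γ ^ i) 0 := by
    intro α β γ i
    induction i with
    | zero => ext a b; fin_cases a <;> fin_cases b <;> simp [M]
    | succ i ih => rw [pow_succ, ih]; ext a b; fin_cases a <;> fin_cases b <;> simp [M, Matrix.mul_apply, Fin.sum_univ_three, pow_succ]
  have hMs : ∀ α β γ c s : F, M α β γ c = s • 1 ↔ α = s ∧ β = s ∧ γ = s ∧ c = 0 := by
    intro α β γ c s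
    constructor
    · intro h
      exact ⟨by simpa [M] using congrFun (congrFun h 0) 0, by simpa [M] using congrFun (congrFun h 1) 1,
        by simpa [M] using congrFun (congrFun h 2) 2, by simpa [M] using congrFun (congrFun h 0) 2⟩
    · rintro ⟨rfl, rfl, rfl, rfl⟩
      ext a b; fin_cases a <;> fin_cases b <;> simp [M]
  refine ⟨?_, ?_, ?_, ?_⟩
  · let D : Matrix (Fin 3) (Fin 3) F := Matrix.diagonal ![z, z⁻¹, 1]
    let A : Cfsg.SU 3 F q := ⟨⟨D, by simp [D, Matrix.det_diagonal, Fin.prod_univ_three, hz0]⟩, fun u v => by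
      show Cfsg.hermForm 3 F q (D *ᵥ u) (D *ᵥ v) = _
      rw [frobQ_apply] at hz1
      simp only [D, Cfsg.hermForm, Fin.sum_univ_three, Matrix.mulVec_diagonal, Matrix.cons_val, mul_pow, one_pow,
        one_mul, inv_pow]
      have hz2 : z⁻¹ * (z ^ q)⁻¹ = 1 := by rw [← mul_inv, hz1, inv_one]
      linear_combination (u 0 * v 0 ^ q) * hz1 + (u 1 * v 1 ^ q) * hz2⟩
    refine hord A (q + 1) fun i => ?_
    rw [← hzo, SubmonoidClass.coe_pow, Matrix.SpecialLinearGroup.coe_pow]
    show (∃ s : F, D ^ i = s • 1) ↔ _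
    rw [Matrix.diagonal_pow]
    simp only [Matrix.smul_one_eq_diagonal, Matrix.diagonal_eq_diagonal_iff]
    constructor
    · rintro ⟨s, hs⟩
      have h0 := hs 0
      have h2 := hs 2
      simp at h0 h2
      rw [h0, h2]
    · intro hi
      exact ⟨1, fun j => by fin_cases j <;> simp [hi]⟩
  · -- a transvection times a torus element
    obtain ⟨t, ht0, ht⟩ : ∃ t : F, t ≠ 0 ∧ t + frobQ hF' t = 0 := by
      obtain ⟨b, hb⟩ : ∃ b, frobQ hF' b ≠ b := by
        by_contra hc
        push Not at hc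
        exact frobQ_ne_id hF' (RingHom.ext hc)
      exact ⟨b - frobQ hF' b, sub_ne_zero.2 (Ne.symm hb), by rw [map_sub, frobQ_invol]; ring⟩
    obtain ⟨u, hu⟩ : d ∣ q + 1 := Nat.gcd_dvd_right _ _
    have hu' : (q + 1) / d = u := by rw [hu, Nat.mul_div_cancel_left _ (Nat.gcd_pos_of_pos_left _ (by norm_num))]
    rw [Nat.mul_div_assoc _ (Nat.gcd_dvd_right _ _), hu']
    have hcop : Nat.Coprime p u := by
      refine (Fact.out : p.Prime).coprime_iff_not_dvd.2 fun h => ?_
      have h1 : p ∣ q := by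
        obtain ⟨f, -, hf⟩ := FiniteField.card F p
        have : p ∣ q ^ 2 := hF ▸ hf ▸ dvd_pow_self p f.ne_zero
        exact (Fact.out : p.Prime).dvd_of_dvd_pow this
      exact (Fact.out : p.Prime).not_dvd_one ((Nat.dvd_add_right h1).1 (h.trans (hu ▸ dvd_mul_left u d)))
    refine mk z (z⁻¹ ^ 2) z (z * t) hz1 (by
        rw [map_pow, map_inv₀, ← mul_pow, ← mul_inv, hz1, inv_one, one_pow]) (by
        rw [map_mul]; linear_combination (z * frobQ hF' z) * ht)
      (by field_simp) _ fun i => ?_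
    have hpow : M z (z⁻¹ ^ 2) z (z * t) ^ i = M (z ^ i) ((z⁻¹ ^ 2) ^ i) (z ^ i) ((i : F) * t * z ^ i) := by
      induction i with
      | zero => ext a b; fin_cases a <;> fin_cases b <;> simp [M]
      | succ i ih =>
        rw [pow_succ, ih]
        ext a b
        fin_cases a <;> fin_cases b <;> simp [M, Matrix.mul_apply, Fin.sum_univ_three, pow_succ] <;> ring
    simp only [hpow, hMs]
    have h3 : (z⁻¹ ^ 2) ^ i = z ^ i ↔ u ∣ i := by
      have : (z⁻¹ ^ 2) ^ i = z ^ i ↔ z ^ (i * 3) = 1 := by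
        rw [← pow_mul, inv_pow, inv_eq_iff_eq_inv, ← mul_eq_one_iff_eq_inv₀ (pow_ne_zero _ hz0), ← pow_add]
        ring_nf
      rw [this, hzo, dvd_mul_iff_div_gcd (Nat.succ_pos q), Nat.gcd_comm, hu']
    constructor
    · rintro ⟨s, rfl, h, -, hi⟩
      refine hcop.mul_dvd_of_dvd_of_dvd ?_ (h3.1 h)
      rw [mul_eq_zero, mul_eq_zero] at hi
      exact (CharP.cast_eq_zero_iff F p i).1 ((hi.resolve_right (pow_ne_zero _ hz0)).resolve_right ht0)
    · intro h
      exact ⟨z ^ i, rfl, h3.2 (dvd_of_mul_left_dvd h), rfl, by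
        rw [(CharP.cast_eq_zero_iff F p i).2 (dvd_of_mul_right_dvd h), zero_mul, zero_mul]⟩
  · set μ : F := (g₀ : F)
    have hμ0 : μ ≠ 0 := g₀.ne_zero
    have hμo : ∀ i, μ ^ i = 1 ↔ q ^ 2 - 1 ∣ i := fun i => by
      rw [hq21, ← hg₀, ← orderOf_units, orderOf_dvd_iff_pow_eq_one]
    have hμq : μ ^ (q - 1) * frobQ hF' (μ ^ (q - 1)) = 1 := by
      rw [frobQ_apply, ← pow_succ', ← pow_mul]
      exact (hμo _).2 (by rw [hq21, mul_comm (q - 1)])
    refine mk μ (μ ^ (q - 1)) (frobQ hF' μ)⁻¹ 0 (by rw [map_inv₀, frobQ_invol, mul_inv_cancel₀ hμ0]) hμq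
      (by simp) (by
        rw [frobQ_apply, ← pow_succ', show q - 1 + 1 = q by omega, mul_inv_cancel₀ (pow_ne_zero _ hμ0)]) _ fun i => ?_
    simp only [hMpow, hMs]
    have hgcd : Nat.gcd (q ^ 2 - 1) (q - 2) = d := by
      obtain ⟨k, rfl⟩ := Nat.exists_eq_add_of_le hq
      rw [show (2 + k) ^ 2 - 1 = 3 + (4 + k) * k by
          rw [show (2 + k) ^ 2 = 3 + (4 + k) * k + 1 by ring, Nat.add_sub_cancel],
        show 2 + k - 2 = k by omega, Nat.gcd_add_mul_right_left]
      show _ = Nat.gcd 3 (2 + k + 1)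
      rw [show 2 + k + 1 = k + 3 by omega, Nat.gcd_add_self_right]
    have h2 : μ ^ i = (μ ^ (q - 1)) ^ i ↔ (q ^ 2 - 1) / d ∣ i := by
      rw [← hgcd, ← dvd_mul_iff_div_gcd (show 0 < q ^ 2 - 1 by
        rw [hq21]; exact Nat.mul_pos (by omega) (by omega)), ← hμo, ← pow_mul,
        show (q - 1) * i = i * (q - 2) + i by
          rw [mul_comm i, ← Nat.succ_mul, show (q - 2).succ = q - 1 by omega],
        pow_add]
      refine ⟨fun h => mul_right_cancel₀ (pow_ne_zero i hμ0) (by rw [one_mul]; exact h.symm), fun h => by rw [h, one_mul]⟩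
    constructor
    · rintro ⟨s, rfl, h, -, -⟩; exact h2.1 h.symm
    · intro h
      refine ⟨μ ^ i, rfl, (h2.2 h).symm, ?_, trivial⟩
      have h1 := congrArg (· ^ i) hμq
      simp only [mul_pow, one_pow, ← map_pow] at h1
      rw [← h2.2 h] at h1
      rw [inv_pow, ← map_pow]
      exact (eq_inv_of_mul_eq_one_left h1).symm
  · obtain ⟨A, hA⟩ := exists_su_singer hF' (n := 3) le_rfl
    rw [← psuTor_three hq]
    exact hord A _ hA

end CfsgLib.SpecAbsorb
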