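import Cfsg.Agent.Spectrum.Basic
import Mathlib.Data.ZMod.Basic
import Mathlib.GroupTheory.OrderOfElement

/-!
When two or three copies of a group absorb an elementary abelian `r`-group in the set of element orders.
-/

set_option autoImplicit false

namespace CfsgLib.SpecAbsorb

variable {G : Type*} [Group G] [Finite G] {r : ℕ} {T : ℕ → Prop}

theorem absorb_three (m : ℕ)
    (hD : ∀ x : G, ¬ r ∣ orderOf x → (∃ y : G, Nat.lcm (orderOf x) r ∣ orderOf y) ∨ T (orderOf x))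
    (hW : ∀ a b c, T a → T b → T c → ∃ x y z : G,
      a ∣ Nat.lcm (orderOf x) (Nat.lcm (orderOf y) (orderOf z)) ∧
      b ∣ Nat.lcm (orderOf x) (Nat.lcm (orderOf y) (orderOf z)) ∧
      c ∣ Nat.lcm (orderOf x) (Nat.lcm (orderOf y) (orderOf z)) ∧
      r ∣ Nat.lcm (orderOf x) (Nat.lcm (orderOf y) (orderOf z))) :
    Set.range (orderOf : G × G × G × Multiplicative (Fin m → ZMod r) → ℕ) =
      Set.range (orderOf : G × G × G → ℕ) := by
  have hD' : ∀ x : G, (∃ y : G, Nat.lcm (orderOf x) r ∣ orderOf y) ∨ T (orderOf x) := fun x => by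
    by_cases h : r ∣ orderOf x
    · exact Or.inl ⟨x, Nat.lcm_dvd dvd_rfl h⟩
    · exact hD x h
  ext k
  constructor
  · rintro ⟨⟨a, b, c, w⟩, rfl⟩
    have hw : orderOf w ∣ r := orderOf_dvd_of_pow_eq_one (Multiplicative.toAdd.injective
      (funext fun i => by simp [toAdd_pow]))
    suffices h : ∃ x y z : G, orderOf (a, b, c, w) ∣ orderOf (x, y, z) by
      obtain ⟨x, y, z, h⟩ := h
      exact CfsgLib.Spectrum.exists_orderOf_eq_of_dvd (orderOf_pos (x, y, z)) h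
    simp only [Prod.orderOf_mk]
    rcases hD' a with ⟨y, hy⟩ | ha
    · refine ⟨y, b, c, Nat.lcm_dvd ?_ (Nat.lcm_dvd ?_ (Nat.lcm_dvd ?_ ?_))⟩
      · exact ((Nat.dvd_lcm_left _ r).trans hy).trans (Nat.dvd_lcm_left _ _)
      · exact (Nat.dvd_lcm_left _ _).trans (Nat.dvd_lcm_right _ _)
      · exact (Nat.dvd_lcm_right _ _).trans (Nat.dvd_lcm_right _ _)
      · exact (hw.trans ((Nat.dvd_lcm_right _ r).trans hy)).trans (Nat.dvd_lcm_left _ _)
    rcases hD' b with ⟨y, hy⟩ | hb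
    · refine ⟨a, y, c, Nat.lcm_dvd (Nat.dvd_lcm_left _ _) (Nat.lcm_dvd ?_ (Nat.lcm_dvd ?_ ?_))⟩
      · exact ((Nat.dvd_lcm_left _ r).trans hy).trans ((Nat.dvd_lcm_left _ _).trans (Nat.dvd_lcm_right _ _))
      · exact (Nat.dvd_lcm_right _ _).trans (Nat.dvd_lcm_right _ _)
      · exact (hw.trans ((Nat.dvd_lcm_right _ r).trans hy)).trans
          ((Nat.dvd_lcm_left _ _).trans (Nat.dvd_lcm_right _ _))
    rcases hD' c with ⟨y, hy⟩ | hc
    · refine ⟨a, b, y, Nat.lcm_dvd (Nat.dvd_lcm_left _ _) (Nat.lcm_dvd ?_ (Nat.lcm_dvd ?_ ?_))⟩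
      · exact (Nat.dvd_lcm_left _ _).trans (Nat.dvd_lcm_right _ _)
      · exact ((Nat.dvd_lcm_left _ r).trans hy).trans ((Nat.dvd_lcm_right _ _).trans (Nat.dvd_lcm_right _ _))
      · exact (hw.trans ((Nat.dvd_lcm_right _ r).trans hy)).trans
          ((Nat.dvd_lcm_right _ _).trans (Nat.dvd_lcm_right _ _))
    obtain ⟨x, y, z, h1, h2, h3, h4⟩ := hW _ _ _ ha hb hc
    exact ⟨x, y, z, Nat.lcm_dvd h1 (Nat.lcm_dvd h2 (Nat.lcm_dvd h3 (hw.trans h4)))⟩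
  · rintro ⟨⟨a, b, c⟩, rfl⟩
    exact ⟨(a, b, c, 1), by simp [Prod.orderOf_mk]⟩

theorem absorb_two (m : ℕ)
    (hD : ∀ x : G, ¬ r ∣ orderOf x → (∃ y : G, Nat.lcm (orderOf x) r ∣ orderOf y) ∨ T (orderOf x))
    (hW : ∀ a b, T a → T b → ∃ x y : G, a ∣ Nat.lcm (orderOf x) (orderOf y) ∧
      b ∣ Nat.lcm (orderOf x) (orderOf y) ∧ r ∣ Nat.lcm (orderOf x) (orderOf y)) :
    Set.range (orderOf : G × G × Multiplicative (Fin m → ZMod r) → ℕ) =
      Set.range (orderOf : G × G → ℕ) := by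
  have hD' : ∀ x : G, (∃ y : G, Nat.lcm (orderOf x) r ∣ orderOf y) ∨ T (orderOf x) := fun x => by
    by_cases h : r ∣ orderOf x
    · exact Or.inl ⟨x, Nat.lcm_dvd dvd_rfl h⟩
    · exact hD x h
  ext k
  constructor
  · rintro ⟨⟨a, b, w⟩, rfl⟩
    have hw : orderOf w ∣ r := orderOf_dvd_of_pow_eq_one (Multiplicative.toAdd.injective
      (funext fun i => by simp [toAdd_pow]))
    suffices h : ∃ x y : G, orderOf (a, b, w) ∣ orderOf (x, y) by
      obtain ⟨x, y, h⟩ := h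
      exact CfsgLib.Spectrum.exists_orderOf_eq_of_dvd (orderOf_pos (x, y)) h
    simp only [Prod.orderOf_mk]
    rcases hD' a with ⟨y, hy⟩ | ha
    · exact ⟨y, b, Nat.lcm_dvd (((Nat.dvd_lcm_left _ r).trans hy).trans (Nat.dvd_lcm_left _ _))
        (Nat.lcm_dvd (Nat.dvd_lcm_right _ _)
          ((hw.trans ((Nat.dvd_lcm_right _ r).trans hy)).trans (Nat.dvd_lcm_left _ _)))⟩
    rcases hD' b with ⟨y, hy⟩ | hb
    · exact ⟨a, y, Nat.lcm_dvd (Nat.dvd_lcm_left _ _)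
        (Nat.lcm_dvd (((Nat.dvd_lcm_left _ r).trans hy).trans (Nat.dvd_lcm_right _ _))
          ((hw.trans ((Nat.dvd_lcm_right _ r).trans hy)).trans (Nat.dvd_lcm_right _ _)))⟩
    obtain ⟨x, y, h1, h2, h4⟩ := hW _ _ ha hb
    exact ⟨x, y, Nat.lcm_dvd h1 (Nat.lcm_dvd h2 (hw.trans h4))⟩
  · rintro ⟨⟨a, b⟩, rfl⟩
    exact ⟨(a, b, 1), by simp [Prod.orderOf_mk]⟩

end CfsgLib.SpecAbsorb
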