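import Cfsg.Agent.SpecAbsorb.Cases
import Cfsg.Agent.SpecAbsorb.SUModels
import Cfsg.Agent.Unitary.Decompose
import Cfsg.Agent.SpecAbsorb.Absorb

/-!
`PSU_n(q)` and a prime `r ∣ q + 1`, `r ∤ n`: an element either commutes with an element of order `r`, or its
order divides the product of the torus exponent and the exponent of a Sylow subgroup for the characteristic.
-/

set_option autoImplicit false
set_option linter.style.haveILetI false
set_option maxHeartbeats 400000

namespace CfsgLib.SpecAbsorb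

open Matrix Module CfsgLib.Forms CfsgLib.SpectrumPSL

variable {F : Type*} [Field F] [Finite F] {q : ℕ} (hF : Nat.card F = q ^ 2) {n : ℕ}

include hF in
/-- A proper self-adjoint idempotent gives an element of order `r` of `PSU_n(q)` commuting with it. -/
theorem exists_order_r_of_adj {r : ℕ} (hr : r.Prime) (hrq : r ∣ q + 1) (hrn : ¬ r ∣ n) (hn : 2 ≤ n)
    {e : Module.End F (Fin n → F)} (he : e * e = e) (he0 : e ≠ 0) (he1 : e ≠ 1)
    (hee : IsAdj (CfsgLib.Unitary.uForm hF n) e e) :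
    ∃ W : Cfsg.SU n F q, orderOf (QuotientGroup.mk W : Cfsg.PSU n F q) = r ∧
      ∀ A : Cfsg.SU n F q, Commute (Matrix.toLinAlgEquiv' (A.1 : Matrix (Fin n) (Fin n) F)) e →
        Commute A W := by
  classical
  have := Fact.mk hr
  obtain ⟨z, hz⟩ := exists_prime_orderOf_dvd_card' (G := Fˣ) r
    (by rw [CfsgLib.Forms.card_units_eq hF]; exact dvd_mul_of_dvd_left hrq _)
  set ζ : F := (z : F)
  have hzr : ζ ^ r = 1 := by rw [← Units.val_pow_eq_pow_val, ← hz, pow_orderOf_eq_one, Units.val_one]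
  have hzq : ζ * frobQ hF ζ = 1 := by
    obtain ⟨c, hc⟩ := hrq
    rw [frobQ_apply, ← pow_succ', hc, pow_mul, hzr, one_pow]
  let T := (Matrix.toLinAlgEquiv' : Matrix (Fin n) (Fin n) F ≃ₐ[F] Module.End F (Fin n → F))
  set W0 : Module.End F (Fin n → F) := 1 + (ζ - 1) • e with hW0
  have hpow : ∀ j : ℕ, W0 ^ j = 1 + (ζ ^ j - 1) • e := by
    intro j
    induction j with
    | zero => simp
    | succ j ih =>
      rw [pow_succ, ih, hW0]
      simp only [mul_add, add_mul, one_mul, mul_one, smul_mul_assoc, mul_smul_comm, he, smul_add, smul_smul]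
      rw [pow_succ, add_assoc, add_right_inj, ← add_smul, ← add_smul]
      congr 1
      ring
  have hWr : W0 ^ r = 1 := by rw [hpow, hzr, sub_self, zero_smul, add_zero]
  have hdet : LinearMap.det W0 ^ r = 1 := by rw [← map_pow, hWr, map_one]
  obtain ⟨k, -, hk⟩ := (show IsPrimitiveRoot ζ r by
    rw [← hz, ← orderOf_units]; exact IsPrimitiveRoot.orderOf _).eq_pow_of_pow_eq_one hdet
  have hn0 : (n : ZMod r) ≠ 0 := by rwa [Ne, ZMod.natCast_eq_zero_iff]
  set t : ℕ := (-(k : ZMod r) / n).val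
  have ht : r ∣ t * n + k := by
    rw [← ZMod.natCast_eq_zero_iff]
    simp [t, div_mul_cancel₀ _ hn0]
  have hiso : ∀ u v, (CfsgLib.Unitary.uForm hF n).h ((ζ ^ t • W0) u) ((ζ ^ t • W0) v) =
      (CfsgLib.Unitary.uForm hF n).h u v := by
    intro u v
    set Φ := CfsgLib.Unitary.uForm hF n
    have hs : ∀ c : F, Φ.σ c = frobQ hF c := fun c => rfl
    simp only [hW0, LinearMap.smul_apply, LinearMap.add_apply, Module.End.one_apply, Φ.smul_left, Φ.smul_right,
      Φ.add_left, Φ.add_right, hee u (e v), hee u v,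
      show e (e v) = e v from LinearMap.congr_fun he v]
    rw [hs, hs, map_pow, map_sub, map_one]
    have h1 : ζ ^ t * (frobQ hF ζ) ^ t = 1 := by rw [← mul_pow, hzq, one_pow]
    linear_combination (Φ.h u v + (ζ * frobQ hF ζ - 1) * Φ.h u (e v)) * h1 + Φ.h u (e v) * hzq
  have hdetW : LinearMap.det (ζ ^ t • W0) = 1 := by
    rw [LinearMap.det_smul, Module.finrank_fin_fun, ← hk, ← pow_mul, ← pow_add]
    obtain ⟨c, hc⟩ := ht
    rw [hc, pow_mul, hzr, one_pow]
  let W : Cfsg.SU n F q := ⟨⟨T.symm (ζ ^ t • W0), by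
      rw [show (T.symm (ζ ^ t • W0)) = LinearMap.toMatrix' (ζ ^ t • W0) from rfl, LinearMap.det_toMatrix', hdetW]⟩,
    fun u v => by
      show Cfsg.hermForm n F q (T.symm (ζ ^ t • W0) *ᵥ u) (T.symm (ζ ^ t • W0) *ᵥ v) = _
      rw [← Matrix.toLinAlgEquiv'_apply, ← Matrix.toLinAlgEquiv'_apply]
      show Cfsg.hermForm n F q (T (T.symm (ζ ^ t • W0)) u) (T (T.symm (ζ ^ t • W0)) v) = _
      rw [T.apply_symm_apply]
      exact hiso u v⟩
  have hTW : T (W.1 : Matrix (Fin n) (Fin n) F) = ζ ^ t • W0 := T.apply_symm_apply _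
  refine ⟨W, orderOf_eq_prime ?_ ?_, fun A hA => Subtype.ext (Subtype.ext ?_)⟩
  · have : W ^ r = 1 := Subtype.ext (Subtype.ext (T.injective (by
      show T ((W.1 : Matrix.SpecialLinearGroup (Fin n) F) ^ r : Matrix.SpecialLinearGroup (Fin n) F).1 = T 1
      rw [Matrix.SpecialLinearGroup.coe_pow, map_pow, hTW, map_one, smul_pow, hWr, ← pow_mul, mul_comm, pow_mul,
        hzr, one_pow, one_smul])))
    rw [← QuotientGroup.mk_pow, this]
    rfl
  · rw [Ne, QuotientGroup.eq_one_iff, CfsgLib.Unitary.mem_center_SU_iff hF hn]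
    rintro ⟨c, hc⟩
    have hc' : ζ ^ t • W0 = c • 1 := by rw [← hTW, hc, map_smul, map_one]
    have hz1 : ζ - 1 ≠ 0 := by
      rw [sub_ne_zero, Ne, Units.val_eq_one]
      intro h; rw [h, orderOf_one] at hz; exact hr.one_lt.ne hz
    have hEs : ∃ s : F, e = s • 1 := by
      refine ⟨(c / ζ ^ t - 1) / (ζ - 1), ?_⟩
      have hzt : ζ ^ t ≠ 0 := pow_ne_zero _ z.ne_zero
      have h3 : (ζ - 1) • e = (c / ζ ^ t - 1) • (1 : Module.End F (Fin n → F)) := by
        rw [sub_smul (c / ζ ^ t) (1 : F) (1 : Module.End F (Fin n → F)), one_smul, div_eq_inv_mul, ← smul_smul, ← hc', smul_smul, inv_mul_cancel₀ hzt,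
          one_smul, hW0]
        abel
      rw [div_eq_inv_mul (_ - 1), ← smul_smul, ← h3, smul_smul, inv_mul_cancel₀ hz1, one_smul]
    obtain ⟨s, rfl⟩ := hEs
    rw [smul_mul_smul_comm, one_mul] at he
    haveI : Nonempty (Fin n) := ⟨⟨0, by omega⟩⟩
    have hss : s * s = s := smul_left_injective F (one_ne_zero (α := Module.End F (Fin n → F))) he
    rcases eq_or_ne s 0 with h | h
    · exact he0 (by rw [h, zero_smul])
    · exact he1 (by rw [mul_left_cancel₀ h (hss.trans (mul_one s).symm), one_smul])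
  · apply T.injective
    show T ((A.1 : Matrix (Fin n) (Fin n) F) * (W.1 : Matrix (Fin n) (Fin n) F)) =
      T ((W.1 : Matrix (Fin n) (Fin n) F) * (A.1 : Matrix (Fin n) (Fin n) F))
    rw [map_mul, map_mul, hTW, hW0]
    exact ((Commute.one_right _).add_right (hA.smul_right _)).smul_right _

include hF in
theorem geo_dvd_of_dvd {o d L : ℕ} (h1 : o ∣ (q ^ 2) ^ d - 1) (h2 : o ∣ geo (q ^ 2) d * L) :
    o ∣ geo (q ^ 2) (d * L) := by
  have hq2 : 2 ≤ q ^ 2 := by have := two_le_q hF; nlinarith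
  rw [← geo_mul_geo hq2]
  have h3 : (q ^ 2) ^ d ≡ 1 [MOD o] := ((Nat.modEq_iff_dvd' (Nat.one_le_pow _ _ (by omega))).2 h1).symm
  exact (Nat.ModEq.dvd_iff ((geo_modEq h3 L).mul_left (geo (q ^ 2) d)) dvd_rfl).2 h2

include hF in
/-- The key divisibility in the residue field. -/
theorem dvd_suTor_field {K : Type*} [Field K] [Finite K] {d L : ℕ} (hd : Odd d) (hn : d * L = n) {x : K}
    (hxQ : x ^ (q ^ d + 1) = 1) (hxE : x ^ (geo (q ^ 2) d * L) = 1) : orderOf x ∣ suTor q n := by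
  have hq2 := two_le_q hF
  have hsq : (q ^ 2) ^ d - 1 = (q ^ d + 1) * (q ^ d - 1) := by
    rw [← pow_mul, mul_comm 2 d, pow_mul]
    simpa using Nat.sq_sub_sq (q ^ d) 1
  have h1 : orderOf x ∣ q ^ d + 1 := orderOf_dvd_of_pow_eq_one hxQ
  have h1' : orderOf x ∣ (q ^ 2) ^ d - 1 := hsq ▸ h1.mul_right _
  have h2 : orderOf x ∣ geo (q ^ 2) d * L := orderOf_dvd_of_pow_eq_one hxE
  unfold suTor
  split_ifs with ho
  · refine Nat.dvd_gcd (h1.trans ?_) ?_
    · rw [← hn, pow_mul]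
      have := (Nat.odd_mul.1 (show Odd (L * d) by rw [mul_comm, hn]; exact ho)).1.nat_add_dvd_pow_add_pow (q ^ d) 1
      simpa using this
    · rw [← hn]; exact geo_dvd_of_dvd hF h1' h2
  · obtain ⟨l, rfl⟩ : Even L := by
      refine (Nat.even_mul.1 (show Even (d * L) by rw [hn]; exact Nat.not_odd_iff_even.1 ho)).resolve_left ?_
      exact Nat.not_even_iff_odd.2 hd
    rw [show n / 2 = d * l by rw [← hn, mul_add]; omega]
    refine Nat.dvd_gcd (h1'.trans ?_) ?_
    · rw [← hn, show d * (l + l) = 2 * d * l by ring, pow_mul q, ← pow_mul q 2 d]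
      exact Nat.sub_one_dvd_pow_sub_one _ _
    · have hE : geo (q ^ 2) d * (q + 1) = (q ^ d + 1) * geo q d := by
        apply Nat.eq_of_mul_eq_mul_right (show 0 < q - 1 by omega)
        rw [mul_assoc, mul_assoc, geo_mul q d (by omega), ← hsq, ← geo_mul (q ^ 2) d (by nlinarith)]
        congr 1
        simpa using (Nat.sq_sub_sq q 1).symm
      have h3 : orderOf x ∣ geo (q ^ 2) d * (q + 1) := hE ▸ h1.mul_right _
      have h4 : orderOf x ∣ geo (q ^ 2) d * l * (q - 1) := by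
        have ha : orderOf x ∣ geo (q ^ 2) d * l * (q + 1) := by
          rw [mul_right_comm]; exact h3.mul_right l
        have hb : orderOf x ∣ geo (q ^ 2) d * l * 2 := by rwa [mul_assoc, mul_two]
        have := Nat.dvd_sub ha hb
        rwa [← Nat.mul_sub, show q + 1 - 2 = q - 1 by omega] at this
      have h5 : (q ^ 2) ^ d ≡ 1 [MOD orderOf x] :=
        ((Nat.modEq_iff_dvd' (Nat.one_le_pow _ _ (by nlinarith))).2 h1').symm
      rw [← geo_mul_geo (by nlinarith)]
      exact (Nat.ModEq.dvd_iff (((geo_modEq h5 l).mul_left (geo (q ^ 2) d)).mul_right (q - 1)) dvd_rfl).2 h4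

include hF in
theorem dvd_suTor_pair {K : Type*} [Field K] [Finite K] {d L : ℕ} (hn : 2 * (d * L) = n) {x : K}
    (hx1 : x ^ ((q ^ 2) ^ d - 1) = 1) (hxE : x ^ (geo (q ^ 2) d * L * (q - 1)) = 1) :
    orderOf x ∣ suTor q n := by
  have hq2 := two_le_q hF
  rw [suTor, if_neg (Nat.not_odd_iff_even.2 ⟨d * L, by omega⟩), show n / 2 = d * L by omega]
  have h1 := orderOf_dvd_of_pow_eq_one hx1
  refine Nat.dvd_gcd (h1.trans ?_) ?_
  · rw [← hn, pow_mul, pow_mul]
    exact Nat.sub_one_dvd_pow_sub_one _ _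
  · have h5 : (q ^ 2) ^ d ≡ 1 [MOD orderOf x] :=
      ((Nat.modEq_iff_dvd' (Nat.one_le_pow _ _ (by nlinarith))).2 h1).symm
    rw [← geo_mul_geo (by nlinarith)]
    exact (Nat.ModEq.dvd_iff (((geo_modEq h5 L).mul_left (geo (q ^ 2) d)).mul_right (q - 1)) dvd_rfl).2
      (orderOf_dvd_of_pow_eq_one hxE)

theorem suTor_dvd (q n : ℕ) : suTor q n ∣ psuTor q n * (q + 1) := by
  conv_lhs => rw [← Nat.div_mul_cancel (Nat.gcd_dvd_left (suTor q n) (q + 1))]
  exact mul_dvd_mul_left _ (Nat.gcd_dvd_right _ _)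

include hF in
theorem suTor_not_dvd {p : ℕ} (hp : p.Prime) (hpq : p ∣ q) (hn : 1 ≤ n) : ¬ p ∣ suTor q n := by
  intro h
  have hpn : p ∣ q ^ n := hpq.trans (dvd_pow_self q (by omega))
  unfold suTor at h
  split_ifs at h
  · exact hp.not_dvd_one ((Nat.dvd_add_right hpn).1 (h.trans (Nat.gcd_dvd_left _ _)))
  · have := Nat.dvd_sub hpn (h.trans (Nat.gcd_dvd_left _ _))
    rw [Nat.sub_sub_self (Nat.one_le_pow _ _ (by have := two_le_q hF; omega))] at this
    exact hp.not_dvd_one this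

include hF in
/-- The dichotomy. -/
theorem su_dichotomy {p : ℕ} [Fact p.Prime] [CharP F p] {r K : ℕ} (hr : r.Prime) (hrq : r ∣ q + 1)
    (hrn : ¬ r ∣ n) (hn : 2 ≤ n) (hK : n ≤ p ^ K) (x : Cfsg.PSU n F q) (hx : ¬ r ∣ orderOf x) :
    (∃ y : Cfsg.PSU n F q, Nat.lcm (orderOf x) r ∣ orderOf y) ∨ orderOf x ∣ psuTor q n * p ^ K := by
  classical
  haveI := Fintype.ofFinite F
  have hcard : Fintype.card F = q ^ 2 := by rw [← Nat.card_eq_fintype_card, hF]
  have hq2 := two_le_q hF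
  obtain ⟨A, rfl⟩ := QuotientGroup.mk_surjective x
  let T := (Matrix.toLinAlgEquiv' : Matrix (Fin n) (Fin n) F ≃ₐ[F] Module.End F (Fin n → F))
  set Φ := CfsgLib.Unitary.uForm hF n
  set g : Module.End F (Fin n → F) := T (A.1 : Matrix (Fin n) (Fin n) F) with hgdef
  have hg : ∀ u v, Φ.h (g u) (g v) = Φ.h u v := fun u v => A.2 u v
  have hdetg : LinearMap.det g = 1 :=
    (LinearMap.det_toLin' (A.1 : Matrix (Fin n) (Fin n) F)).trans A.1.2
  haveI : Nonempty (Fin n) := ⟨⟨0, by omega⟩⟩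
  have hdim : finrank F (Fin n → F) = n := Module.finrank_fin_fun F
  haveI : CharP (Module.End F (Fin n → F)) p :=
    charP_of_injective_algebraMap (FaithfulSMul.algebraMap_injective F _) p
  -- scalar powers
  have fin : ∀ (a L : ℕ) (c : F), L ≤ p ^ K → (g ^ a - algebraMap F (Module.End F (Fin n → F)) c) ^ L = 0 →
      orderOf (QuotientGroup.mk A : Cfsg.PSU n F q) ∣ a * p ^ K := by
    intro a L c hL h
    have h1 := pow_eq_zero_of_le hL h
    rw [sub_pow_char_pow_of_commute p _ ((Algebra.commute_algebraMap_right c _)), sub_eq_zero, ← pow_mul, ← map_pow (algebraMap F (Module.End F (Fin n → F)))] at h1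
    refine orderOf_dvd_of_pow_eq_one ?_
    rw [← QuotientGroup.mk_pow, QuotientGroup.eq_one_iff, CfsgLib.Unitary.mem_center_SU_iff hF hn]
    refine ⟨c ^ p ^ K, T.injective ?_⟩
    rw [SubmonoidClass.coe_pow, Matrix.SpecialLinearGroup.coe_pow, map_pow, ← hgdef, h1, map_smul, map_one,
      Algebra.algebraMap_eq_smul_one]
  -- a scalar in the residue field
  have scal : ∀ {K' : Type _} [Field K'] [Finite K'] [Algebra F K'] (y : K'), orderOf y ∣ suTor q n →
      ∃ c : F, y ^ psuTor q n = algebraMap F K' c ∧ c * Φ.σ c = 1 := by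
    intro K' _ _ _ y hy
    have h : (y ^ psuTor q n) ^ (q + 1) = 1 := by
      rw [← pow_mul]; exact orderOf_dvd_iff_pow_eq_one.1 (hy.trans (suTor_dvd q n))
    obtain ⟨c, hc⟩ := mem_base_of_pow_card (F := F) (x := y ^ psuTor q n) (by
      rw [hcard, show q ^ 2 = (q + 1) * (q - 1) + 1 by
        have := Nat.sq_sub_sq q 1; rw [one_pow] at this; rw [← this]; have := Nat.one_le_pow 2 q (by omega); omega,
        pow_succ, pow_mul, h, one_pow, one_mul])
    refine ⟨c, hc.symm, ?_⟩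
    rw [show Φ.σ c = c ^ q from rfl, ← pow_succ']
    exact (algebraMap F K').injective (by rw [map_pow, hc, h, map_one])
  rcases cases (CfsgLib.Unitary.uForm_nondeg hF n) hg with ⟨e, he, he0, he1, hce, hee⟩ |
      ⟨K', _, _, _, d, L, τ, y, hL, hKc, hdL, hττ, hτF, hτy, hdy, hnil⟩ |
      ⟨K', _, _, _, d, L, y, δ, hL, hKc, hdL, hy0, hdy, hδ, hnil⟩
  · left
    obtain ⟨W, hW, hWc⟩ := exists_order_r_of_adj hF hr hrq hrn hn he he0 he1 hee
    set a := orderOf (QuotientGroup.mk A : Cfsg.PSU n F q)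
    have hc : Commute (QuotientGroup.mk A : Cfsg.PSU n F q) (QuotientGroup.mk W) :=
      (hWc A hce).map (QuotientGroup.mk' (Subgroup.center (Cfsg.SU n F q)))
    refine ⟨QuotientGroup.mk A * QuotientGroup.mk W, ?_⟩
    rw [hc.orderOf_mul_eq_mul_orderOf_of_coprime, hW, Nat.Coprime.lcm_eq_mul]
    · exact (hr.coprime_iff_not_dvd.2 hx).symm
    · rw [hW]; exact (hr.coprime_iff_not_dvd.2 hx).symm
  · right
    rw [hdim] at hdL
    have hd0 : 0 < d := by rcases Nat.eq_zero_or_pos d with rfl | h <;> [simp at hdL; exact h]; omega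
    have hid : τ ≠ RingHom.id K' := fun h => frobQ_ne_id hF (RingHom.ext fun c =>
      (algebraMap F K').injective (by
        show algebraMap F K' (Φ.σ c) = _
        rw [← hτF, h]; rfl))
    obtain ⟨Q, hQ, hQτ⟩ := (involution_eq_pow τ hττ).resolve_left hid
    obtain rfl : Q = q ^ d := by
      rw [hKc, hF, ← pow_mul, mul_comm 2 d, pow_mul] at hQ
      exact Nat.pow_left_injective two_ne_zero hQ
    have hdodd : Odd d := by
      refine Nat.not_even_iff_odd.1 fun ⟨e, he⟩ => frobQ_ne_id hF (RingHom.ext fun c => ?_)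
      apply (algebraMap F K').injective
      show algebraMap F K' (Φ.σ c) = _
      rw [← hτF, hQτ, ← map_pow, he, ← two_mul, pow_mul, ← hcard, FiniteField.pow_card_pow]
      rfl
    rw [hQτ, ← pow_succ] at hτy
    rw [hdetg, map_one, hF] at hdy
    obtain ⟨c, hc, hc1⟩ := scal y (dvd_suTor_field hF hdodd hdL hτy hdy.symm)
    exact fin _ L c ((Nat.le_mul_of_pos_left L hd0).trans (hdL.le.trans hK)) (hnil _ c hc)
  · right
    rw [hdim] at hdL
    have hd0 : 0 < d := by rcases Nat.eq_zero_or_pos d with rfl | h <;> [simp at hdL; exact h]; omega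
    haveI := Fintype.ofFinite K'
    rw [hF] at hdy
    rw [hdetg, one_mul] at hδ
    have hδ0 : δ ≠ 0 := fun h => pow_ne_zero _ hy0 (by rw [← hdy, h, map_zero])
    have hδq : δ ^ (q - 1) = 1 := mul_right_cancel₀ hδ0 (by
      rw [one_mul, ← pow_succ, Nat.sub_add_cancel (by omega)]; exact hδ)
    have hy1 : y ^ ((q ^ 2) ^ d - 1) = 1 := by
      rw [← hF, ← hKc, Nat.card_eq_fintype_card]
      exact FiniteField.pow_card_sub_one_eq_one y hy0
    obtain ⟨c, hc, hc1⟩ := scal y (dvd_suTor_pair hF hdL hy1 (by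
      rw [pow_mul, show geo (q ^ 2) d = geomExp (q ^ 2) d from rfl, ← hdy, ← map_pow, hδq, map_one]))
    have hLn : L ≤ n := (Nat.le_mul_of_pos_left L hd0).trans (by omega)
    exact fin _ L c (hLn.trans hK) (hnil _ c hc hc1)

include hF in
theorem orderOf_mk_of_ppow_SU {p : ℕ} [Fact p.Prime] [CharP F p] {G : Cfsg.SU n F q} {K : ℕ} (hn : 2 ≤ n)
    (hG : orderOf G = p ^ K) : orderOf (QuotientGroup.mk G : Cfsg.PSU n F q) = p ^ K := by
  rw [← hG]
  refine Nat.dvd_antisymm (orderOf_map_dvd (QuotientGroup.mk' _) G) ?_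
  apply orderOf_dvd_of_pow_eq_one
  set j := orderOf (QuotientGroup.mk G : Cfsg.PSU n F q)
  obtain ⟨c, hc⟩ := (CfsgLib.Unitary.mem_center_SU_iff hF hn).1 ((QuotientGroup.eq_one_iff (G ^ j)).1
    (by rw [QuotientGroup.mk_pow]; exact pow_orderOf_eq_one _))
  have h1 : (G ^ j) ^ p ^ K = 1 := by rw [← pow_mul, mul_comm, pow_mul, ← hG, pow_orderOf_eq_one, one_pow]
  have h2 := congrArg (fun M : Cfsg.SU n F q => (M.1 : Matrix (Fin n) (Fin n) F)) h1
  simp only [SubmonoidClass.coe_pow, Matrix.SpecialLinearGroup.coe_pow] at h2 hc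
  rw [hc, smul_pow, one_pow] at h2
  haveI : Nonempty (Fin n) := ⟨⟨0, by omega⟩⟩
  have h3 : c ^ p ^ K = 1 := by simpa using congrFun (congrFun h2 ⟨0, by omega⟩) ⟨0, by omega⟩
  have : c = 1 := by
    have h4 : (c - 1) ^ p ^ K = 0 := by rw [sub_pow_char_pow, h3, one_pow, sub_self]
    exact sub_eq_zero.mp (eq_zero_of_pow_eq_zero h4)
  exact Subtype.ext (Subtype.ext (by
    simp only [SubmonoidClass.coe_pow, Matrix.SpecialLinearGroup.coe_pow]
    rw [hc, this, one_smul]; rfl))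

include hF in
/-- An element of order `p ^ K * r`, and one of order `r`. -/
theorem exists_su_mixed {p : ℕ} [Fact p.Prime] [CharP F p] {r K k : ℕ} (hr : r.Prime) (hrq : r ∣ q + 1)
    (hk : 2 ≤ k) (hrk : ¬ r ∣ k + 1) (hpq : p ∣ q) (h1 : k ≤ p ^ K) (h2 : p ^ (K - 1) < k) :
    ∃ v : Cfsg.PSU (k + 1) F q, orderOf v = p ^ K * r := by
  classical
  obtain ⟨U, hU⟩ := exists_su_unip hF hk h1 h2
  let ι : Cfsg.SU k F q →* Cfsg.SU (k + 1) F q :=
    { toFun := fun X => ⟨⟨CfsgLib.Unitary.blkMat (X.1 : Matrix (Fin k) (Fin k) F) (1 : Matrix (Fin 1) (Fin 1) F), by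
          rw [CfsgLib.Unitary.blkMat, Matrix.det_reindex_self, Matrix.det_fromBlocks_zero₂₁, Matrix.det_one, mul_one]
          exact X.1.2⟩, fun u v => by
          show Cfsg.hermForm (k + 1) F q (CfsgLib.Unitary.blkMat _ _ *ᵥ u) (CfsgLib.Unitary.blkMat _ _ *ᵥ v) = _
          rw [CfsgLib.Unitary.herm_append, CfsgLib.Unitary.herm_append u v, (CfsgLib.Unitary.blkMat_mulVec _ _ u).1,
            (CfsgLib.Unitary.blkMat_mulVec _ _ u).2, (CfsgLib.Unitary.blkMat_mulVec _ _ v).1,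
            (CfsgLib.Unitary.blkMat_mulVec _ _ v).2, Matrix.one_mulVec, Matrix.one_mulVec]
          congr 1
          exact X.2 _ _⟩
      map_one' := Subtype.ext (Subtype.ext CfsgLib.Unitary.blkMat_one)
      map_mul' := fun X Y => Subtype.ext (Subtype.ext (by
        show CfsgLib.Unitary.blkMat ((X * Y).1 : Matrix (Fin k) (Fin k) F) 1 = _ * _
        rw [CfsgLib.Unitary.blkMat_mul, one_mul]; rfl)) }
  have hι : Function.Injective ι := fun X Y h => Subtype.ext (Subtype.ext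
    (CfsgLib.Unitary.blkMat_inj (congrArg (fun Z : Cfsg.SU (k + 1) F q =>
      (Z.1 : Matrix (Fin (k + 1)) (Fin (k + 1)) F)) h)).1)
  let E : Matrix (Fin (k + 1)) (Fin (k + 1)) F := CfsgLib.Unitary.blkMat (1 : Matrix (Fin k) (Fin k) F) 0
  let T := (Matrix.toLinAlgEquiv' : Matrix (Fin (k + 1)) (Fin (k + 1)) F ≃ₐ[F] Module.End F (Fin (k + 1) → F))
  have hE : E * E = E := by simp only [E, CfsgLib.Unitary.blkMat_mul, one_mul, mul_zero]
  have hE0 : T E ≠ 0 := fun h => by
    have h' : E = CfsgLib.Unitary.blkMat (k := k) (m := 1) 0 0 := by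
      rw [T.injective (h.trans (map_zero T).symm)]; simp [CfsgLib.Unitary.blkMat]
    haveI : Nonempty (Fin k) := ⟨⟨0, by omega⟩⟩
    exact one_ne_zero (CfsgLib.Unitary.blkMat_inj h').1
  have hE1 : T E ≠ 1 := fun h => by
    have h' : E = CfsgLib.Unitary.blkMat (k := k) (m := 1) 1 1 := by
      rw [T.injective (h.trans (map_one T).symm), CfsgLib.Unitary.blkMat_one]
    exact zero_ne_one (CfsgLib.Unitary.blkMat_inj h').2
  have hEE : IsAdj (CfsgLib.Unitary.uForm hF (k + 1)) (T E) (T E) := fun u v => by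
    show Cfsg.hermForm (k + 1) F q (E *ᵥ u) v = Cfsg.hermForm (k + 1) F q u (E *ᵥ v)
    rw [CfsgLib.Unitary.herm_append, CfsgLib.Unitary.herm_append u, (CfsgLib.Unitary.blkMat_mulVec _ _ u).1,
      (CfsgLib.Unitary.blkMat_mulVec _ _ u).2, (CfsgLib.Unitary.blkMat_mulVec _ _ v).1,
      (CfsgLib.Unitary.blkMat_mulVec _ _ v).2, Matrix.one_mulVec, Matrix.one_mulVec, Matrix.zero_mulVec,
      Matrix.zero_mulVec]
    simp [Cfsg.hermForm, zero_pow (show q ≠ 0 by have := two_le_q hF; omega)]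
  obtain ⟨W, hW, hWc⟩ := exists_order_r_of_adj hF hr hrq hrk (by omega) (by rw [← map_mul, hE]) hE0 hE1 hEE
  have hc : Commute (ι U) W := hWc _ (Commute.map (f := T) (by
    show _ = _
    simp only [E, ι, MonoidHom.coe_mk, OneHom.coe_mk, CfsgLib.Unitary.blkMat_mul, one_mul, mul_one, mul_zero]))
  have hc' : Commute (QuotientGroup.mk (ι U) : Cfsg.PSU (k + 1) F q) (QuotientGroup.mk W) :=
    hc.map (QuotientGroup.mk' (Subgroup.center (Cfsg.SU (k + 1) F q)))
  have ho := orderOf_mk_of_ppow_SU hF (p := p) (by omega) ((orderOf_injective ι hι U).trans hU)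
  refine ⟨QuotientGroup.mk (ι U) * QuotientGroup.mk W, ?_⟩
  rw [hc'.orderOf_mul_eq_mul_orderOf_of_coprime, ho, hW]
  rw [ho, hW]
  refine Nat.Coprime.pow_left _ ((Nat.coprime_primes (Fact.out) hr).2 ?_)
  rintro rfl
  exact hr.not_dvd_one ((Nat.dvd_add_right hpq).1 hrq)

end CfsgLib.SpecAbsorb
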