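import Cfsg.Agent.SpecAbsorb.Primary
import Mathlib.LinearAlgebra.Dual.Lemmas

/-!
The three cases for an isometry: a proper self-adjoint idempotent, one residue field, or two exchanged ones.
-/

set_option autoImplicit false
set_option linter.style.haveILetI false
set_option maxHeartbeats 400000

namespace CfsgLib.SpecAbsorb

open Module CfsgLib.Forms

universe u v

variable {F : Type u} [Field F] [Finite F] {V : Type v} [AddCommGroup V] [Module F V] [FiniteDimensional F V]
  {Φ : RForm F V} {g : Module.End F V}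

/-- The ranges of adjoint idempotents have the same dimension. -/
theorem finrank_range_adj (hΦ : Φ.Nondeg) {a b : Module.End F V} (h : IsAdj Φ a b) (ha : a * a = a)
    (hb : b * b = b) : finrank F (LinearMap.range a) = finrank F (LinearMap.range b) := by
  suffices key : ∀ a b : Module.End F V, IsAdj Φ a b → b * b = b →
      finrank F (LinearMap.range b) ≤ finrank F (LinearMap.range a) from
    le_antisymm (key b a h.symm ha) (key a b h hb)
  intro a b h hb
  let f : LinearMap.range b → Module.Dual F (LinearMap.range a) := fun u =>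
    (Φ.toDual (u : V)).comp (LinearMap.range a).subtype
  have hf : Function.Injective f := by
    rintro ⟨_, x, rfl⟩ ⟨_, y, rfl⟩ hxy
    refine Subtype.ext (sub_eq_zero.1 (hΦ _ fun v => ?_))
    show Φ.h v (b x - b y) = 0
    rw [← map_sub, ← LinearMap.congr_fun hb (x - y), Module.End.mul_apply, ← h v (b (x - y)), map_sub,
      Φ.sub_right, sub_eq_zero]
    exact LinearMap.congr_fun hxy ⟨a v, v, rfl⟩
  haveI : Finite (LinearMap.range a) := Module.finite_of_finite F
  haveI : Finite (Module.Dual F (LinearMap.range a)) := Module.finite_of_finite F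
  have h1 := Nat.card_le_card_of_injective f hf
  rw [Module.natCard_eq_pow_finrank (K := F) (V := LinearMap.range b),
    Module.natCard_eq_pow_finrank (K := F) (V := Module.Dual F (LinearMap.range a)), Subspace.dual_finrank_eq] at h1
  exact (Nat.pow_le_pow_iff_right Finite.one_lt_card).1 h1

/-- The case analysis. -/
theorem cases [Nontrivial V] (hΦ : Φ.Nondeg) (hg : ∀ u v, Φ.h (g u) (g v) = Φ.h u v) :
    (∃ e : Module.End F V, e * e = e ∧ e ≠ 0 ∧ e ≠ 1 ∧ Commute g e ∧ IsAdj Φ e e) ∨
    (∃ (K : Type v) (_ : Field K) (_ : Finite K) (_ : Algebra F K) (d L : ℕ) (τ : K →+* K) (x : K),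
      1 ≤ L ∧ Nat.card K = Nat.card F ^ d ∧ d * L = finrank F V ∧ (∀ k, τ (τ k) = k) ∧
      (∀ c, τ (algebraMap F K c) = algebraMap F K (Φ.σ c)) ∧ τ x * x = 1 ∧
      algebraMap F K (LinearMap.det g) = x ^ (geomExp (Nat.card F) d * L) ∧
      ∀ (a : ℕ) (c : F), x ^ a = algebraMap F K c → (g ^ a - algebraMap F (Module.End F V) c) ^ L = 0) ∨
    (∃ (K : Type v) (_ : Field K) (_ : Finite K) (_ : Algebra F K) (d L : ℕ) (x : K) (δ : F),
      1 ≤ L ∧ Nat.card K = Nat.card F ^ d ∧ 2 * (d * L) = finrank F V ∧ x ≠ 0 ∧
      algebraMap F K δ = x ^ (geomExp (Nat.card F) d * L) ∧ LinearMap.det g * Φ.σ δ = δ ∧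
      ∀ (a : ℕ) (c : F), x ^ a = algebraMap F K c → c * Φ.σ c = 1 →
        (g ^ a - algebraMap F (Module.End F V) c) ^ L = 0) := by
  classical
  haveI : Finite (Module.End F V) := Module.finite_of_finite F
  set τ := adjHom hΦ hg
  haveI : Nontrivial (GA g) := ⟨⟨0, 1, fun h => zero_ne_one (congrArg Subtype.val h : (0 : Module.End F V) = 1)⟩⟩
  rcases idem_cases τ (adjHom_adjHom hΦ hg) with ⟨e, he, hτe, he0, he1⟩ | he | ⟨e, he, he2⟩
  · refine Or.inl ⟨e, congrArg Subtype.val he, fun h => he0 (Subtype.ext h), fun h => he1 (Subtype.ext h),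
      congrArg Subtype.val (mul_comm (gen g) e), ?_⟩
    have := adjHom_spec hΦ hg e
    rwa [show adjHom hΦ hg e = e from hτe] at this
  · obtain ⟨K, iK, fK, aK, π, d, L, hL, hK, hdim, -, hsurj, hπ0, hπL, hdet⟩ := corner 1 he
    have hker : RingHom.ker π.toRingHom ≤ RingHom.ker (π.toRingHom.comp τ) := fun a ha => by
      rw [RingHom.mem_ker] at ha ⊢
      obtain ⟨s, hs⟩ := (hπ0 a).1 ha
      refine (hπ0 _).2 ⟨s, ?_⟩
      rw [mul_one] at hs ⊢
      rw [← map_pow, hs, map_zero]
    let τK : K →+* K := π.toRingHom.liftOfSurjective hsurj ⟨π.toRingHom.comp τ, hker⟩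
    have hτK : ∀ a, τK (π a) = π (τ a) := fun a =>
      RingHom.liftOfRightInverse_comp_apply _ _ (Function.rightInverse_surjInv hsurj) ⟨π.toRingHom.comp τ, hker⟩ a
    refine Or.inr (Or.inl ⟨K, iK, fK, aK, d, L, τK, π (gen g), hL, hK, ?_, fun k => ?_, fun c => ?_, ?_, ?_,
      fun a c hac => ?_⟩)
    · rw [hdim, show LinearMap.range ((1 : GA g) : Module.End F V) = ⊤ from
        LinearMap.range_eq_top.2 fun v => ⟨v, rfl⟩, finrank_top]
    · obtain ⟨a, rfl⟩ := hsurj k
      rw [hτK, hτK, adjHom_adjHom]
    · rw [← π.commutes c, hτK, adjHom_algebraMap, π.commutes]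
    · rw [hτK, ← map_mul, adjHom_gen_mul, map_one]
    · have hdet := hdet (gen g)
      rw [mul_one, sub_self, add_zero] at hdet
      exact hdet
    · have h := hπL (gen g ^ a - algebraMap F (GA g) c) (by rw [map_sub, map_pow, π.commutes, hac, sub_self])
      rw [mul_one] at h
      exact congrArg Subtype.val h
  · obtain ⟨K, iK, fK, aK, π, d, L, hL, hK, hdim, hπe, -, hπ0, hπL, hdet⟩ := corner e he
    set δ := LinearMap.det ((gen g * e + (1 - e) : GA g) : Module.End F V)
    refine Or.inr (Or.inr ⟨K, iK, fK, aK, d, L, π (gen g), δ, hL, hK, ?_, ?_, hdet (gen g), ?_, fun a c hac hc => ?_⟩)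
    · have h1 := finrank_range_adj hΦ (adjHom_spec hΦ hg e) (congrArg Subtype.val he.idem)
        (congrArg Subtype.val (show τ e * τ e = τ e by rw [← map_mul, he.idem]))
      have h2 : LinearMap.ker (e : Module.End F V) = LinearMap.range ((τ e : GA g) : Module.End F V) := by
        have heq : ((τ e : GA g) : Module.End F V) = 1 - (e : Module.End F V) :=
          congrArg Subtype.val (show τ e = 1 - e by linear_combination he2)
        ext v
        rw [LinearMap.mem_ker, LinearMap.mem_range, heq]
        refine ⟨fun hv => ⟨v, ?_⟩, ?_⟩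
        · rw [LinearMap.sub_apply, Module.End.one_apply, hv, sub_zero]
        · rintro ⟨w, rfl⟩
          rw [LinearMap.sub_apply, Module.End.one_apply, map_sub, ← Module.End.mul_apply,
            show (e : Module.End F V) * (e : Module.End F V) = e from congrArg Subtype.val he.idem, sub_self]
      have h3 := (e : Module.End F V).finrank_range_add_finrank_ker
      rw [h2, ← h1, ← hdim, ← two_mul] at h3
      exact h3
    · intro h0
      have h1 := congrArg π (adjHom_gen_mul hΦ hg)
      rw [map_mul, h0, mul_zero, map_one] at h1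
      exact zero_ne_one h1
    · have h1 : gen g * τ (gen g * e + (1 - e)) = gen g * e + (1 - e) := by
        rw [map_add, map_mul, map_sub, map_one]
        linear_combination τ e * adjHom_gen_mul hΦ hg + (1 - gen g) * he2
      have h2 := congrArg (fun z : GA g => LinearMap.det (z : Module.End F V)) h1
      have h3 := det_adj hΦ (adjHom_spec hΦ hg (gen g * e + (1 - e))).symm
      simp only [MulMemClass.coe_mul, map_mul] at h2
      rw [h3] at h2
      exact h2
    · set X := gen g ^ a - algebraMap F (GA g) c with hX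
      have hXe := hπL X (by rw [hX, map_sub, map_pow, π.commutes, hac, sub_self])
      have hτX : (τ X * τ e) ^ L = 0 := by rw [← map_mul, ← map_pow, hXe, map_zero]
      have hga : gen g ^ a * τ (gen g) ^ a = 1 := by rw [← mul_pow, mul_comm, adjHom_gen_mul, one_pow]
      have hcc : algebraMap F (GA g) c * algebraMap F (GA g) (Φ.σ c) = 1 := by rw [← map_mul, hc, map_one]
      have hXe' : (X * τ e) ^ L = 0 := by
        rw [show X * τ e = -(gen g ^ a * algebraMap F (GA g) c) * (τ X * τ e) by
          rw [hX, map_sub, map_pow, adjHom_algebraMap]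
          linear_combination algebraMap F (GA g) c * τ e * hga - gen g ^ a * τ e * hcc, mul_pow, hτX, mul_zero]
      have hτe : τ e * τ e = τ e := by rw [← map_mul, he.idem]
      obtain ⟨t, rfl⟩ := Nat.exists_eq_add_of_le hL
      rw [mul_pow, show 1 + t = t + 1 from add_comm _ _, IsIdempotentElem.pow_succ_eq t he.idem] at hXe
      rw [mul_pow, show 1 + t = t + 1 from add_comm _ _, IsIdempotentElem.pow_succ_eq t hτe] at hXe'
      have : X ^ (t + 1) = 0 := by linear_combination hXe + hXe' - X ^ (t + 1) * he2
      rw [show 1 + t = t + 1 from add_comm _ _]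
      exact congrArg Subtype.val this

end CfsgLib.SpecAbsorb
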