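import Cfsg.Prelude.Def_Classical
import Cfsg.Agent.SpecAbsorb.Cases
import Cfsg.Agent.SpecAbsorb.SpModels
import Cfsg.Agent.SpecAbsorb.Absorb
import Mathlib.FieldTheory.Finite.GaloisField

/-!
`PSp_{2n}(q)`, `q` odd: an element of odd order either has an involution centralising it, or its order
divides `q^n - 1`, `q^n + 1` or the exponent of a Sylow subgroup for the characteristic.
-/

set_option autoImplicit false
set_option linter.style.haveILetI false
set_option maxHeartbeats 400000

namespace CfsgLib.SpecAbsorb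

open Matrix Module CfsgLib.Forms

variable {F : Type*} [Field F] {l : Type*} [Fintype l] [DecidableEq l]

/-- The symplectic form as a reflexive form. -/
def sForm (F : Type*) [Field F] (l : Type*) [Fintype l] [DecidableEq l] : RForm F (l ⊕ l → F) where
  h := CfsgLib.Symp.form
  σ := RingHom.id F
  ε := -1
  σσ _ := rfl
  εσε := by simp
  add_left := CfsgLib.Symp.form_add_left
  smul_left := CfsgLib.Symp.form_smul_left
  swap u v := by rw [RingHom.id_apply, CfsgLib.Symp.form_swap v u, neg_one_mul]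
  trace_valued v := ⟨0, by simp [CfsgLib.Symp.form_self]⟩

theorem sForm_nondeg : (sForm F l).Nondeg := fun _ h => CfsgLib.Symp.eq_zero_of_form_eq_zero h

variable [Finite F]

omit [Finite F] in
/-- An involution commuting with an element of odd order doubles its order in the quotient. -/
theorem two_mul_dvd {A t : Matrix.symplecticGroup l F} (hA : Odd (orderOf A))
    (htt : t * t = 1) (ht : t ∉ Subgroup.center (Matrix.symplecticGroup l F)) (hc : Commute A t) :
    2 * orderOf A ∣ orderOf (QuotientGroup.mk (A * t) :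
      Matrix.symplecticGroup l F ⧸ Subgroup.center (Matrix.symplecticGroup l F)) := by
  set Z := Subgroup.center (Matrix.symplecticGroup l F)
  set i := orderOf (QuotientGroup.mk (A * t) : Matrix.symplecticGroup l F ⧸ Z)
  have hi : (A * t) ^ i ∈ Z := (QuotientGroup.eq_one_iff _).1 (by
    rw [QuotientGroup.mk_pow]; exact pow_orderOf_eq_one _)
  set a := orderOf A with ha
  obtain ⟨c, hc'⟩ : ∃ c, c = (A * t) ^ i := ⟨_, rfl⟩
  have hcZ : c ∈ Z := hc' ▸ hi
  have hcc : c ^ 2 = 1 := Subtype.ext (by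
    rcases CfsgLib.Symp.mem_center_iff.1 hcZ with e | e <;> simp [SubmonoidClass.coe_pow, e])
  obtain ⟨w, hw⟩ := hA
  have hca : c ^ a = c := by rw [hw, pow_succ, pow_mul, hcc, one_pow, one_mul]
  have h1 : t ^ (i * a) = c := by
    rw [← hca, hc', ← pow_mul, hc.mul_pow, mul_comm i, pow_mul A, pow_orderOf_eq_one, one_pow, one_mul]
  have hev : 2 ∣ i := by
    by_contra hodd
    obtain ⟨v, hv⟩ : Odd (i * a) := (Nat.not_even_iff_odd.1 fun h => hodd h.two_dvd).mul ⟨w, hw⟩
    rw [hv, pow_succ, pow_mul, sq, htt, one_pow, one_mul] at h1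
    exact ht (h1 ▸ hcZ)
  obtain ⟨v, hv⟩ := hev
  have hti : t ^ i = 1 := by rw [hv, pow_mul, sq, htt, one_pow]
  have h3 : A ^ i = c := by rw [hc', hc.mul_pow, hti, mul_one]
  have h4 : c = 1 := by rw [← hca, ← h3, ← pow_mul, mul_comm, pow_mul, pow_orderOf_eq_one, one_pow]
  exact (Nat.coprime_two_left.2 ⟨w, hw⟩).mul_dvd_of_dvd_of_dvd ⟨v, hv⟩
    (orderOf_dvd_of_pow_eq_one (h3.trans h4))

omit [Finite F] in
/-- The order of the image of an element, up to a factor two. -/
theorem dvd_two_mul_orderOf_mk (z : Matrix.symplecticGroup l F) :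
    orderOf z ∣ 2 * orderOf (QuotientGroup.mk z :
      Matrix.symplecticGroup l F ⧸ Subgroup.center (Matrix.symplecticGroup l F)) := by
  set i := orderOf (QuotientGroup.mk z :
      Matrix.symplecticGroup l F ⧸ Subgroup.center (Matrix.symplecticGroup l F))
  refine orderOf_dvd_of_pow_eq_one ?_
  have hi : z ^ i ∈ Subgroup.center (Matrix.symplecticGroup l F) := (QuotientGroup.eq_one_iff _).1 (by
    rw [QuotientGroup.mk_pow]; exact pow_orderOf_eq_one _)
  rw [mul_comm, pow_mul]
  exact Subtype.ext (by rcases CfsgLib.Symp.mem_center_iff.1 hi with e | e <;> simp [SubmonoidClass.coe_pow, e])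

theorem odd_dvd_of_dvd_two_mul {a b : ℕ} (ha : Odd a) (h : a ∣ 2 * b) : a ∣ b :=
  (Nat.coprime_two_right.2 ha).dvd_of_dvd_mul_left h

variable {n : ℕ}

local notation "Sp" n => Matrix.symplecticGroup (Fin n) F

omit [Finite F] in
/-- A direct sum of two elements, with the second negated. -/
theorem exists_pair (h2 : (1 : F) ≠ -1) {m k : ℕ} (hm : 1 ≤ m) (hk : 1 ≤ k) (hmk : m + k = n)
    (z : Sp m) (u : Sp k) (hz : Odd (orderOf z)) (hu : Odd (orderOf u)) :
    ∃ y : Cfsg.PSp n F, 2 * Nat.lcm (orderOf z) (orderOf u) ∣ orderOf y := by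
  classical
  let ψ : (Sp m) × (Sp k) →* Sp n :=
    (CfsgLib.Symp.congrSp (R := F) (finSumFinEquiv.trans (finCongr hmk) : Fin m ⊕ Fin k ≃ Fin n)).toMonoidHom.comp
      CfsgLib.Symp.blockHom
  have hψ : Function.Injective ψ := fun a b h =>
    CfsgLib.Symp.blockHom_injective ((CfsgLib.Symp.congrSp _).injective h)
  let ng : Sp k := ⟨-1, SymplecticGroup.neg_mem (one_mem _)⟩
  have hA : orderOf (ψ (z, u)) = Nat.lcm (orderOf z) (orderOf u) := by
    rw [orderOf_injective ψ hψ, Prod.orderOf_mk]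
  set t := ψ (1, ng)
  have htt : t * t = 1 := by
    rw [← map_mul, Prod.mk_mul_mk, one_mul, show ng * ng = 1 from Subtype.ext (by simp [ng]), ← Prod.one_eq_mk,
      map_one]
  have hpm : ∀ {j : ℕ}, 1 ≤ j → (1 : Matrix (Fin j ⊕ Fin j) (Fin j ⊕ Fin j) F) ≠ -1 := fun {j} hj h => h2 (by
    simpa using congrFun (congrFun h (Sum.inl ⟨0, hj⟩)) (Sum.inl ⟨0, hj⟩))
  have ht : t ∉ Subgroup.center (Sp n) := by
    intro h
    rcases CfsgLib.Symp.mem_center_iff.1 h with e | e
    · have h1 : t = 1 := Subtype.ext e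
      have := congrArg Prod.snd (hψ (h1.trans (map_one ψ).symm))
      exact hpm hk (congrArg Subtype.val this).symm
    · have hneg : t = ψ (⟨-1, SymplecticGroup.neg_mem (one_mem _)⟩, ng) := Subtype.ext (e.trans (by
        show (-1 : Matrix (Fin n ⊕ Fin n) (Fin n ⊕ Fin n) F) = Matrix.reindex _ _ (CfsgLib.Symp.blockMat (-1) (-1))
        have hb : CfsgLib.Symp.blockMat (R := F) (-1 : Matrix (Fin m ⊕ Fin m) (Fin m ⊕ Fin m) F)
            (-1 : Matrix (Fin k ⊕ Fin k) (Fin k ⊕ Fin k) F) = -1 := by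
          rw [CfsgLib.Symp.blockMat, show Matrix.fromBlocks (-1 : Matrix (Fin m ⊕ Fin m) (Fin m ⊕ Fin m) F) 0 0
              (-1 : Matrix (Fin k ⊕ Fin k) (Fin k ⊕ Fin k) F) = -1 by
            simp [← Matrix.fromBlocks_one, Matrix.fromBlocks_neg], Matrix.submatrix_neg]
          simp
        rw [hb, Matrix.reindex_apply, Matrix.submatrix_neg]
        simp))
      have := congrArg Prod.fst (hψ hneg)
      exact hpm hm (congrArg Subtype.val this)
  have hc : Commute (ψ (z, u)) t := by
    refine Commute.map ?_ ψ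
    exact Prod.ext (Commute.one_right z) (Subtype.ext (by simp [ng]))
  have := two_mul_dvd (hA ▸ (hz.mul hu).of_dvd_nat (Nat.lcm_dvd_mul _ _)) htt ht hc
  rw [hA] at this
  exact ⟨_, this⟩

omit [Finite F] in
theorem dvd_of_nilpotent {p : ℕ} [Fact p.Prime] [CharP F p] {V : Type*} [AddCommGroup V] [Module F V]
    [Nontrivial V] {g : Module.End F V} {N L j : ℕ} (hj : L ≤ p ^ j) (h : (g ^ N - 1) ^ L = 0) :
    g ^ (N * p ^ j) = 1 := by
  haveI : CharP (Module.End F V) p := charP_of_injective_algebraMap (FaithfulSMul.algebraMap_injective F _) p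
  have h1 := pow_eq_zero_of_le hj h
  rwa [sub_pow_char_pow_of_commute p _ (Commute.one_right _), one_pow, sub_eq_zero, ← pow_mul] at h1

/-- The orders not absorbed. -/
def SpT (q p n K a : ℕ) : Prop := Odd a ∧ (a ∣ q ^ n - 1 ∨ a ∣ q ^ n + 1 ∨ a ∣ p ^ K)

variable [Fintype F] {p : ℕ} [Fact p.Prime] [CharP F p]

omit [Finite F] [Fact p.Prime] in
theorem dvd_card_pow {h : ℕ} (hh : 0 < h) : p ∣ Fintype.card F ^ h := by
  obtain ⟨f, -, hf⟩ := FiniteField.card F p
  rw [hf, ← pow_mul]
  exact dvd_pow_self p (Nat.mul_pos f.pos hh).ne'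

theorem exists_real (h2 : (1 : F) ≠ -1) {m L : ℕ} (hL : 2 ≤ L) (hn : m * L = n) (hn0 : 1 ≤ n) {N a : ℕ}
    (ha : Odd a) (z : Sp m) (hz : orderOf z = N) (hN : ¬ p ∣ N) (hd : a ∣ N * p ^ Nat.clog p L) (hp : p ≠ 2) :
    ∃ y : Cfsg.PSp n F, Nat.lcm a 2 ∣ orderOf y := by
  have hm : 1 ≤ m := by rcases Nat.eq_zero_or_pos m with rfl | h <;> [simp at hn; exact h] ; omega
  have hn2 : 2 * m ≤ n := by rw [← hn, mul_comm]; exact Nat.mul_le_mul_left m hL
  have hk : 1 ≤ n - m := by omega
  have hp1 : 1 < p := (Fact.out : p.Prime).one_lt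
  obtain ⟨u, hu⟩ := exists_sp_unip (F := F) (p := p) hk (Nat.le_pow_clog hp1 (2 * (n - m)))
    (Nat.pow_pred_clog_lt_self hp1 (by omega))
  obtain ⟨z', hz'⟩ := CfsgLib.Spectrum.exists_orderOf_eq_of_dvd (orderOf_pos z)
    (show Nat.gcd a N ∣ orderOf z from hz ▸ Nat.gcd_dvd_right a N)
  obtain ⟨y, hy⟩ := exists_pair (n := n) h2 hm hk (by omega) z' u
    (hz' ▸ ha.of_dvd_nat (Nat.gcd_dvd_left a N))
    (hu ▸ ((Fact.out : p.Prime).odd_of_ne_two hp).pow)
  refine ⟨y, Nat.lcm_dvd ?_ ((dvd_mul_right 2 _).trans hy)⟩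
  refine ((Nat.dvd_gcd dvd_rfl hd).trans (Nat.gcd_mul_right_dvd_mul_gcd a N _)).trans ?_
  have hL2 : L ≤ 2 * (n - m) := by
    obtain ⟨v, rfl⟩ := Nat.exists_eq_add_of_le hL
    have : v ≤ m * v := Nat.le_mul_of_pos_left v hm
    have : n - m = m + m * v := by rw [← hn]; ring_nf; omega
    omega
  refine Nat.dvd_trans ?_ ((dvd_mul_left _ 2).trans hy)
  rw [Nat.Coprime.lcm_eq_mul, hz', hu]
  · exact mul_dvd_mul_left _ ((Nat.gcd_dvd_right _ _).trans (pow_dvd_pow p (Nat.clog_mono_right p hL2)))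
  · rw [hz', hu]
    refine Nat.Coprime.pow_right _ (Nat.Coprime.coprime_dvd_left (Nat.gcd_dvd_right a N) ?_)
    rw [Nat.coprime_comm, (Fact.out : p.Prime).coprime_iff_not_dvd]
    exact hN

theorem dichotomy (h2 : (1 : F) ≠ -1) (hp : p ≠ 2) (hn : 1 ≤ n) {K : ℕ} (hK : 2 * n ≤ p ^ K)
    (x : Cfsg.PSp n F) (hx : ¬ 2 ∣ orderOf x) :
    (∃ y : Cfsg.PSp n F, Nat.lcm (orderOf x) 2 ∣ orderOf y) ∨
      SpT (Fintype.card F) p n K (orderOf x) := by
  classical
  have hp1 : 1 < p := (Fact.out : p.Prime).one_lt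
  set a := orderOf x with ha
  have hao : Odd a := Nat.not_even_iff_odd.1 fun h => hx h.two_dvd
  obtain ⟨A₀, hA₀⟩ := QuotientGroup.mk_surjective x
  obtain ⟨w, hw⟩ := hao
  set A := A₀ ^ (2 * (w + 1)) with hA
  have hxa : x ^ a = 1 := pow_orderOf_eq_one x
  have hxA : (QuotientGroup.mk A : Cfsg.PSp n F) = x := by
    rw [hA, QuotientGroup.mk_pow, hA₀, show 2 * (w + 1) = a + 1 by omega, pow_succ, hxa, one_mul]
  have hAa : A ^ a = 1 := by
    have hz : A₀ ^ a ∈ Subgroup.center (Sp n) := (QuotientGroup.eq_one_iff _).1 (by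
      rw [QuotientGroup.mk_pow, hA₀, hxa])
    have hsq : (A₀ ^ a) ^ 2 = 1 := Subtype.ext (by
      rcases CfsgLib.Symp.mem_center_iff.1 hz with e | e <;> simp [SubmonoidClass.coe_pow, e])
    rw [hA, ← pow_mul, show 2 * (w + 1) * a = (a * 2) * (w + 1) by ring, pow_mul, pow_mul, hsq, one_pow]
  have hAo : orderOf A = a := Nat.dvd_antisymm (orderOf_dvd_of_pow_eq_one hAa)
    (orderOf_dvd_of_pow_eq_one (by rw [← hxA, ← QuotientGroup.mk_pow, pow_orderOf_eq_one]; rfl))
  let T := (Matrix.toLinAlgEquiv' : Matrix (Fin n ⊕ Fin n) (Fin n ⊕ Fin n) F ≃ₐ[F] _)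
  set g : Module.End F (Fin n ⊕ Fin n → F) := T A.1 with hgdef
  have hgo : orderOf g = a := by
    rw [← hAo]
    exact orderOf_injective (T.toMonoidHom.comp (Matrix.symplecticGroup (Fin n) F).subtype)
      (T.injective.comp Subtype.val_injective) A
  have hg : ∀ u v, (sForm F (Fin n)).h (g u) (g v) = (sForm F (Fin n)).h u v := fun u v =>
    CfsgLib.Symp.mem_iff_form.1 A.2 u v
  haveI : Nonempty (Fin n ⊕ Fin n) := ⟨Sum.inl ⟨0, hn⟩⟩
  have hq2 : 2 ≤ Fintype.card F := Fintype.one_lt_card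
  have hdim : finrank F (Fin n ⊕ Fin n → F) = 2 * n := by
    rw [Module.finrank_fintype_fun_eq_card, Fintype.card_sum, Fintype.card_fin, two_mul]
  rcases cases sForm_nondeg hg with ⟨e, he, he0, he1, hce, hee⟩ |
      ⟨K', _, _, _, d, L, τ, y, hL, hKc, hdL, hττ, hτF, hτy, -, hnil⟩ |
      ⟨K', _, _, _, d, L, y, δ, hL, hKc, hdL, hy0, -, -, hnil⟩
  · left
    set s : Module.End F (Fin n ⊕ Fin n → F) := e + e - 1 with hs
    have hss : s * s = 1 := by
      rw [hs]; simp only [add_mul, mul_add, sub_mul, mul_sub, he, one_mul, mul_one]; abel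
    have hsa : IsAdj (sForm F (Fin n)) s s := fun u v => by
      simp only [hs, LinearMap.sub_apply, LinearMap.add_apply, Module.End.one_apply, RForm.sub_left,
        RForm.sub_right, (sForm F (Fin n)).add_left, RForm.add_right]
      rw [hee u v]
    let t : Sp n := ⟨T.symm s, CfsgLib.Symp.mem_iff_form.2 fun u v => by
      rw [← Matrix.toLinAlgEquiv'_apply, ← Matrix.toLinAlgEquiv'_apply]
      show (sForm F (Fin n)).h (T (T.symm s) u) (T (T.symm s) v) = (sForm F (Fin n)).h u v
      rw [T.apply_symm_apply, hsa u (s v), ← Module.End.mul_apply, hss, Module.End.one_apply]⟩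
    have htt : t * t = 1 := Subtype.ext (by
      show T.symm s * T.symm s = 1
      rw [← map_mul, hss, map_one])
    have ht : t ∉ Subgroup.center (Sp n) := by
      intro h
      rcases CfsgLib.Symp.mem_center_iff.1 h with h' | h' <;>
        [have h1 : s = 1 := T.symm.injective (h'.trans (map_one _).symm);
         have h1 : s = -1 := T.symm.injective (h'.trans (by rw [map_neg, map_one]))]
      · refine he1 (LinearMap.ext fun v => ?_)
        have h3 : (2 : F) • (e v - v) = 0 := by
          rw [two_smul]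
          have := LinearMap.congr_fun h1 v
          simp only [hs, LinearMap.sub_apply, LinearMap.add_apply, Module.End.one_apply] at this
          linear_combination (norm := abel) this
        exact sub_eq_zero.1 ((smul_eq_zero.1 h3).resolve_left fun h => h2 (by linear_combination h))
      · refine he0 (LinearMap.ext fun v => ?_)
        have h3 : (2 : F) • e v = 0 := by
          rw [two_smul]
          have := LinearMap.congr_fun h1 v
          simp only [hs, LinearMap.sub_apply, LinearMap.add_apply, Module.End.one_apply,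
            LinearMap.neg_apply] at this
          linear_combination (norm := abel) this
        exact (smul_eq_zero.1 h3).resolve_left fun h => h2 (by linear_combination h)
    have hc : Commute A t := Subtype.ext (by
      show A.1 * T.symm s = T.symm s * A.1
      have hgs : g * s = s * g := by
        rw [hs]; simp only [mul_sub, sub_mul, mul_add, add_mul, mul_one, one_mul, hce.eq]
      rw [← T.symm_apply_apply A.1, ← map_mul, ← map_mul, ← hgdef, hgs])
    have := two_mul_dvd (hAo ▸ ⟨w, hw⟩) htt ht hc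
    rw [hAo] at this
    exact ⟨_, Nat.lcm_dvd ((dvd_mul_left a 2).trans this) ((dvd_mul_right 2 a).trans this)⟩
  · have hKq : Nat.card F = Fintype.card F := Nat.card_eq_fintype_card
    rw [hdim] at hdL
    by_cases hid : τ = RingHom.id K'
    · right
      rw [hid, RingHom.id_apply, ← sq] at hτy
      have h1 := hnil 2 1 (by rw [hτy, map_one])
      rw [map_one] at h1
      rcases Nat.eq_zero_or_pos d with rfl | hd
      · simp at hdL; omega
      have h3 := dvd_of_nilpotent (j := K) (p := p)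
        ((Nat.le_mul_of_pos_left L hd).trans (hdL.le.trans hK)) h1
      exact ⟨⟨w, hw⟩, Or.inr (Or.inr (odd_dvd_of_dvd_two_mul ⟨w, hw⟩ (hgo ▸ orderOf_dvd_of_pow_eq_one h3)))⟩
    · obtain ⟨Q, hQ, hQτ⟩ := (involution_eq_pow τ hττ).resolve_left hid
      haveI : Module.Finite F K' := Module.Finite.of_finite
      let e : K' ≃ₐ[F] K' := AlgEquiv.ofBijective
        (AlgHom.mk τ fun c => hτF c) ⟨τ.injective, fun z => ⟨τ z, hττ z⟩⟩
      have he2 : orderOf e = 2 := orderOf_eq_prime (AlgEquiv.ext fun z => hττ z)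
        fun h => hid (RingHom.ext fun z => AlgEquiv.congr_fun h z)
      have hd : d = finrank F K' :=
        Nat.pow_right_injective (hKq.symm ▸ hq2) (hKc.symm.trans Module.natCard_eq_pow_finrank)
      obtain ⟨h, rfl⟩ : 2 ∣ d := by
        rw [hd, ← IsGalois.card_aut_eq_finrank F K', ← he2]
        exact orderOf_dvd_natCard e
      have hQh : Q = Fintype.card F ^ h := by
        rw [hKc, hKq, mul_comm 2 h, pow_mul] at hQ
        exact Nat.pow_left_injective two_ne_zero hQ
      rw [hQτ, ← pow_succ, hQh] at hτy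
      have h1 := hnil _ 1 (by rw [hτy, map_one])
      rw [map_one] at h1
      have h3 := orderOf_dvd_of_pow_eq_one (dvd_of_nilpotent (Nat.le_pow_clog hp1 L) h1)
      rw [hgo] at h3
      have hhL : h * L = n := by rw [mul_assoc] at hdL; omega
      have hh : 0 < h := by rcases Nat.eq_zero_or_pos h with rfl | h' <;> [simp at hhL; exact h'] ; omega
      rcases Nat.lt_or_ge L 2 with hL1 | hL2
      · obtain rfl : L = 1 := by omega
        rw [Nat.clog_one_right, pow_zero, mul_one] at h3
        rw [mul_one] at hhL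
        exact Or.inr ⟨⟨w, hw⟩, Or.inr (Or.inl (hhL ▸ h3))⟩
      · obtain ⟨z, hz⟩ := CfsgLib.OrderBC.exists_singer_symp F (fun h => h2 (by linear_combination h)) hh
        refine Or.inl (exists_real h2 hL2 hhL hn ⟨w, hw⟩ z hz (fun hd' => ?_) h3 hp)
        exact (Fact.out : p.Prime).not_dvd_one ((Nat.dvd_add_right (dvd_card_pow (F := F) (p := p) hh)).1 hd')
  · rw [hdim] at hdL
    have hhL : d * L = n := by omega
    have hd : 0 < d := by rcases Nat.eq_zero_or_pos d with rfl | h' <;> [simp at hhL; exact h'] ; omega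
    haveI := Fintype.ofFinite K'
    have hyq : y ^ (Fintype.card F ^ d - 1) = 1 := by
      rw [← Nat.card_eq_fintype_card (α := F), ← hKc, Nat.card_eq_fintype_card]
      exact FiniteField.pow_card_sub_one_eq_one y hy0
    have h1 := hnil _ 1 (by rw [hyq, map_one]) (by rw [map_one, mul_one])
    rw [map_one] at h1
    have h3 := orderOf_dvd_of_pow_eq_one (dvd_of_nilpotent (Nat.le_pow_clog hp1 L) h1)
    rw [hgo] at h3
    rcases Nat.lt_or_ge L 2 with hL1 | hL2
    · obtain rfl : L = 1 := by omega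
      rw [Nat.clog_one_right, pow_zero, mul_one] at h3
      rw [mul_one] at hhL
      exact Or.inr ⟨⟨w, hw⟩, Or.inl (hhL ▸ h3)⟩
    · obtain ⟨z, hz⟩ := exists_sp_plus (F := F) hd
      refine Or.inl (exists_real h2 hL2 hhL hn ⟨w, hw⟩ z hz (fun hd' => ?_) h3 hp)
      have := Nat.dvd_sub (dvd_card_pow (F := F) (p := p) hd) hd'
      rw [Nat.sub_sub_self (Nat.one_le_pow _ _ (by omega))] at this
      exact (Fact.out : p.Prime).not_dvd_one this

end CfsgLib.SpecAbsorb
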