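import Mathlib.FieldTheory.Finite.Basic
import Mathlib.Algebra.Algebra.ZMod
import Mathlib.RingTheory.Ideal.Quotient.Operations
import Mathlib.RingTheory.Nilpotent.Basic

/-!
Finite commutative rings with an involution: primitive corners and their residue fields; involutions of
finite fields.
-/

set_option autoImplicit false
set_option linter.style.haveILetI false

namespace CfsgLib.SpecAbsorb

variable {R : Type*} [CommRing R]

theorem exists_idem_pow [Finite R] (x : R) : ∃ M : ℕ, 0 < M ∧ x ^ M * x ^ M = x ^ M := by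
  obtain ⟨i, j, hij, h⟩ : ∃ i j : ℕ, i < j ∧ x ^ i = x ^ j := by
    obtain ⟨i, j, hne, h⟩ := Finite.exists_ne_map_eq_of_infinite fun k : ℕ => x ^ k
    rcases lt_or_gt_of_ne hne with hlt | hlt
    · exact ⟨i, j, hlt, h⟩
    · exact ⟨j, i, hlt, h.symm⟩
  obtain ⟨k, rfl⟩ := Nat.exists_eq_add_of_le hij.le
  have hk : ∀ t, i ≤ t → ∀ m, x ^ (t + k * m) = x ^ t := by
    intro t ht m
    induction m with
    | zero => simp
    | succ m ih =>
      obtain ⟨u, rfl⟩ := Nat.exists_eq_add_of_le ht
      rw [show i + u + k * (m + 1) = (i + k) + (u + k * m) by ring, pow_add, ← h, ← pow_add,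
        show i + (u + k * m) = i + u + k * m by ring, ih]
  have h1 : i ≤ k * (i + 1) := le_trans (Nat.le_succ i) (Nat.le_mul_of_pos_left _ (by omega))
  exact ⟨k * (i + 1), Nat.mul_pos (by omega) i.succ_pos, by rw [← pow_add, hk _ h1]⟩

/-- `e` is an idempotent whose corner has no other idempotents. -/
structure Prim (e : R) : Prop where
  idem : e * e = e
  ne : e ≠ 0
  prim : ∀ f, f * f = f → f * e = f → f = 0 ∨ f = e

theorem idem_cases (τ : R →+* R) (hτ : ∀ x, τ (τ x) = x) [Nontrivial R] :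
    (∃ e : R, e * e = e ∧ τ e = e ∧ e ≠ 0 ∧ e ≠ 1) ∨ Prim (1 : R) ∨ ∃ e : R, Prim e ∧ e + τ e = 1 := by
  by_cases hfix : ∃ e : R, e * e = e ∧ τ e = e ∧ e ≠ 0 ∧ e ≠ 1
  · exact Or.inl hfix
  have hfix' : ∀ e : R, e * e = e → τ e = e → e = 0 ∨ e = 1 := fun e h1 h2 => by
    by_contra hc
    push Not at hc
    exact hfix ⟨e, h1, h2, hc.1, hc.2⟩
  right
  by_cases htriv : ∃ e : R, e * e = e ∧ e ≠ 0 ∧ e ≠ 1
  · obtain ⟨e, he, he0, he1⟩ := htriv
    right
    -- `e * τ e = 0` and `e + τ e = 1`
    have key : ∀ f : R, f * f = f → f ≠ 1 → f * τ f = 0 ∧ (f ≠ 0 → f + τ f = 1) := by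
      intro f hf hf1
      have hτf : τ f * τ f = τ f := by rw [← map_mul, hf]
      have h0 : f * τ f = 0 := by
        rcases hfix' (f * τ f) (by linear_combination (τ f * τ f) * hf + f * hτf)
          (by rw [map_mul, hτ, mul_comm]) with h | h
        · exact h
        · exact absurd (by linear_combination (f - 1) * h.symm + τ f * hf) hf1
      refine ⟨h0, fun hf0 => ?_⟩
      rcases hfix' (f + τ f) (by linear_combination hf + hτf + 2 * h0) (by rw [map_add, hτ, add_comm]) with h | h
      · exact absurd (by linear_combination f * h - hf - h0) hf0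
      · exact h
    refine ⟨e, ⟨he, he0, fun f hf hfe => ?_⟩, (key e he he1).2 he0⟩
    by_cases hf0 : f = 0
    · exact Or.inl hf0
    have hf1 : f ≠ 1 := fun h => he1 (by linear_combination hfe + (1 - e) * h)
    have h2 := (key f hf hf1).2 hf0
    have h3 : τ f * e = 0 := by
      have h4 : τ f * τ e = τ f := by rw [← map_mul, hfe]
      linear_combination (τ f) * (key e he he1).1 - e * h4
    exact Or.inr (by linear_combination e * h2 - hfe - h3)
  · push Not at htriv
    refine Or.inl ⟨one_mul 1, one_ne_zero, fun f hf _ => ?_⟩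
    by_cases hf0 : f = 0
    · exact Or.inl hf0
    · exact Or.inr (htriv f hf hf0)

/-- Elements nilpotent on the corner. -/
def cornerIdeal (e : R) : Ideal R where
  carrier := {a | IsNilpotent (a * e)}
  add_mem' := fun {a b} ha hb => by
    show IsNilpotent ((a + b) * e)
    rw [add_mul]
    exact (Commute.all _ _).isNilpotent_add ha hb
  zero_mem' := by
    show IsNilpotent (0 * e)
    rw [zero_mul]
    exact IsNilpotent.zero
  smul_mem' := fun c a ha => by
    show IsNilpotent (c * a * e)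
    rw [mul_assoc]
    exact (Commute.all _ _).isNilpotent_mul_left ha

theorem mem_cornerIdeal {e a : R} : a ∈ cornerIdeal e ↔ IsNilpotent (a * e) := Iff.rfl

theorem Prim.isMaximal [Finite R] {e : R} (h : Prim e) : (cornerIdeal e).IsMaximal := by
  refine Ideal.isMaximal_iff.2 ⟨fun h1 => ?_, fun J a hPJ haP haJ => ?_⟩
  · obtain ⟨k, hk⟩ := mem_cornerIdeal.1 h1
    rw [one_mul] at hk
    have : ∀ k : ℕ, e ^ (k + 1) = e := fun k => by
      induction k with
      | zero => simp
      | succ k ih => rw [pow_succ, ih, h.idem]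
    rcases k with _ | k
    · rw [pow_zero] at hk; exact h.ne (by rw [← mul_one e, hk, mul_zero])
    · exact h.ne ((this k).symm.trans hk)
  · obtain ⟨M, hM0, hM⟩ := exists_idem_pow (a * e)
    obtain ⟨m, rfl⟩ := Nat.exists_eq_add_of_le hM0
    have hfe : (a * e) ^ (1 + m) * e = (a * e) ^ (1 + m) := by
      rw [pow_add, pow_one]; linear_combination a * (a * e) ^ m * h.idem
    rcases h.prim _ hM hfe with h0 | h0
    · exact absurd (mem_cornerIdeal.2 ⟨_, h0⟩) haP
    · have h1 : a * (a * e) ^ m - 1 ∈ J := hPJ (mem_cornerIdeal.2 ⟨1, by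
        rw [pow_one, sub_mul, one_mul, sub_eq_zero]
        calc a * (a * e) ^ m * e = (a * e) ^ (1 + m) := by rw [pow_add, pow_one]; ring
          _ = e := h0⟩)
      have h2 : a * (a * e) ^ m ∈ J := Ideal.mul_mem_right _ _ haJ
      simpa using sub_mem h2 h1

/-- An involution of a finite field is the identity or the `√q`-th power map. -/
theorem involution_eq_pow {K : Type*} [Field K] [Finite K] (τ : K →+* K) (hτ : ∀ x, τ (τ x) = x) :
    τ = RingHom.id K ∨ ∃ Q : ℕ, Q ^ 2 = Nat.card K ∧ ∀ x, τ x = x ^ Q := by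
  classical
  haveI := Fintype.ofFinite K
  obtain ⟨p, hp⟩ := CharP.exists K
  haveI := Fact.mk (CharP.char_is_prime K p)
  letI : Algebra (ZMod p) K := ZMod.algebra K p
  haveI : Module.Finite (ZMod p) K := Module.Finite.of_finite
  set φ := FiniteField.frobeniusAlgEquivOfAlgebraic (ZMod p) K
  let e : K ≃ₐ[ZMod p] K := AlgEquiv.ofBijective
    (AlgHom.mk τ fun c => DFunLike.congr_fun
      (Subsingleton.elim (τ.comp (algebraMap (ZMod p) K)) (algebraMap (ZMod p) K)) c)
    ⟨τ.injective, fun y => ⟨τ y, hτ y⟩⟩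
  obtain ⟨i, hi⟩ := (FiniteField.bijective_frobeniusAlgEquivOfAlgebraic_pow (ZMod p) K).2 e
  have hval : ∀ x, τ x = x ^ p ^ (i : ℕ) := fun x => by
    have h := DFunLike.congr_fun hi x
    simp only [AlgEquiv.coe_pow, FiniteField.coe_frobeniusAlgEquivOfAlgebraic_iterate, ZMod.card] at h
    exact h.symm
  have h2 : φ ^ (2 * (i : ℕ)) = 1 := by
    rw [two_mul, pow_add]
    simp only at hi
    rw [hi]
    exact AlgEquiv.ext fun x => hτ x
  have hdvd := orderOf_dvd_of_pow_eq_one h2
  rw [FiniteField.orderOf_frobeniusAlgEquivOfAlgebraic] at hdvd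
  obtain ⟨c, hc⟩ := hdvd
  have hlt := i.2
  rcases Nat.eq_zero_or_pos (i : ℕ) with h0 | h0
  · exact Or.inl (RingHom.ext fun x => by rw [hval, h0, pow_zero, pow_one]; rfl)
  · refine Or.inr ⟨p ^ (i : ℕ), ?_, hval⟩
    have hc1 : c = 1 := by
      rcases c with _ | _ | c
      · omega
      · rfl
      · exfalso; nlinarith
    rw [← pow_mul, mul_comm, hc, hc1, mul_one, Nat.card_eq_fintype_card,
      Module.card_eq_pow_finrank (K := ZMod p) (V := K), ZMod.card]

end CfsgLib.SpecAbsorb
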