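import Mathlib.Algebra.CharP.Lemmas
import Mathlib.LinearAlgebra.Matrix.CharP
import Mathlib.Data.Matrix.Basic
import Mathlib.LinearAlgebra.Matrix.Charpoly.Basic
import Mathlib.GroupTheory.OrderOfElement

/-!
The order of a regular unitriangular matrix.
-/

set_option autoImplicit false

namespace CfsgLib.SpecAbsorb

open Matrix

variable {F : Type*} [Field F] {N : ℕ} {M : Matrix (Fin N) (Fin N) F}

theorem superdiag_pow (hlow : ∀ i j : Fin N, (j : ℕ) ≤ i → M i j = 0)
    (hsup : ∀ i j : Fin N, (j : ℕ) = i + 1 → M i j ≠ 0) :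
    ∀ (k : ℕ) (i j : Fin N), ((j : ℕ) < i + k → (M ^ k) i j = 0) ∧ ((j : ℕ) = i + k → (M ^ k) i j ≠ 0) := by
  intro k
  induction k with
  | zero =>
    refine fun i j => ⟨fun h => ?_, fun h => ?_⟩
    · rw [pow_zero, one_apply_ne]
      intro e; rw [e] at h; omega
    · rw [pow_zero, show j = i from Fin.ext (by omega), one_apply_eq]
      exact one_ne_zero
  | succ k ih =>
    intro i j
    refine ⟨fun h => ?_, fun h => ?_⟩
    · rw [pow_succ', mul_apply]
      refine Finset.sum_eq_zero fun b _ => ?_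
      rcases le_or_gt (b : ℕ) i with hb | hb
      · rw [hlow i b hb, zero_mul]
      · rw [(ih b j).1 (by omega), mul_zero]
    · have hi : (i : ℕ) + 1 < N := by omega
      rw [pow_succ', mul_apply, Finset.sum_eq_single ⟨i + 1, hi⟩]
      · exact mul_ne_zero (hsup i _ rfl) ((ih _ j).2 (by simp only; omega))
      · intro b _ hb
        have hb' : (b : ℕ) ≠ i + 1 := fun e => hb (Fin.ext e)
        rcases le_or_gt (b : ℕ) i with hb2 | hb2
        · rw [hlow i b hb2, zero_mul]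
        · rw [(ih b j).1 (by omega), mul_zero]
      · simp

theorem pow_dim_eq_zero (hlow : ∀ i j : Fin N, (j : ℕ) ≤ i → M i j = 0)
    (hsup : ∀ i j : Fin N, (j : ℕ) = i + 1 → M i j ≠ 0) {k : ℕ} (hk : N ≤ k) : M ^ k = 0 :=
  Matrix.ext fun i j => (superdiag_pow hlow hsup k i j).1 (by omega)

/-- `1 + M` has order `p ^ K`, with `p^(K-1) < N ≤ p^K`. -/
theorem orderOf_one_add {p : ℕ} [Fact p.Prime] [CharP F p] {K : ℕ} (hN : 2 ≤ N) (h1 : N ≤ p ^ K)
    (h2 : p ^ (K - 1) < N) (hlow : ∀ i j : Fin N, (j : ℕ) ≤ i → M i j = 0)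
    (hsup : ∀ i j : Fin N, (j : ℕ) = i + 1 → M i j ≠ 0) : orderOf (1 + M) = p ^ K := by
  have : Nonempty (Fin N) := ⟨⟨0, by omega⟩⟩
  have hp : ∀ j, (1 + M) ^ p ^ j = 1 + M ^ p ^ j := fun j => by
    rw [add_pow_char_pow_of_commute p _ (Commute.one_left _), one_pow]
  obtain ⟨J, rfl⟩ : ∃ J, K = J + 1 := ⟨K - 1, by
    rcases K with _ | K
    · simp at h1; omega
    · omega⟩
  refine orderOf_eq_prime_pow (fun h => ?_) ?_
  · rw [hp, add_eq_left] at h
    simp only [Nat.add_sub_cancel] at h2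
    exact (superdiag_pow hlow hsup (p ^ J) ⟨0, by omega⟩ ⟨p ^ J, h2⟩).2 (by simp)
      (congrFun (congrFun h _) _)
  · rw [hp, pow_dim_eq_zero hlow hsup h1, add_zero]

end CfsgLib.SpecAbsorb
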